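import Cfsg.Agent.SuzRank.LineStab
import Cfsg.Agent.SuzRank.Graph
import Cfsg.Agent.RankThree.OrbitalGraph
import Cfsg.Agent.CosetEnum.SuzSimple.Final
import Cfsg.Agent.S1680

/-!
# Recognition of the Suzuki group as a rank 3 group on 1782 points
-/

set_option autoImplicit false
set_option maxRecDepth 100000

namespace CfsgLib.SuzRank

open Equiv (Perm)
open MulAction

variable {G Ω : Type*} [Group G] [MulAction G Ω]

theorem exists_transport {X : Type*} (α : P6 →* Perm X) (hα : ∀ i j : X, ∃ u, α u i = j) {a : Ω}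
    (e : stabilizer G a ≃* P6) (b : Ω) (p : X)
    (hp : ∀ h : stabilizer G a, h • b = b ↔ α (e h) p = p) :
    ∃ f : X → Ω, f p = b ∧ Function.Injective f ∧ (∀ u x, f (α u x) = (e.symm u).1 • f x) ∧
      Set.range f = orbit (stabilizer G a) b := by
  choose u hu using hα p
  let f : X → Ω := fun i => e.symm (u i) • b
  have hw : ∀ i w, α w p = i → f i = e.symm w • b := by
    intro i w hw
    have h1 : α (w⁻¹ * u i) p = p := by
      rw [map_mul, Perm.mul_apply, hu, ← hw, map_inv]
      exact (α w).symm_apply_apply p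
    have h2 := (hp (e.symm (w⁻¹ * u i))).2 (by rwa [e.apply_symm_apply])
    rw [map_mul, map_inv, mul_smul, inv_smul_eq_iff] at h2
    exact h2
  refine ⟨f, by rw [hw p 1 (by simp), map_one, one_smul], fun i j e' => ?_, fun v x => ?_, ?_⟩
  · have h2 : e.symm ((u j)⁻¹ * u i) • b = b := by
      rw [map_mul, map_inv, mul_smul, inv_smul_eq_iff]
      exact e'
    have h3 := (hp _).1 h2
    rw [e.apply_symm_apply, map_mul, Perm.mul_apply, hu, map_inv, Equiv.Perm.inv_eq_iff_eq, hu] at h3
    exact h3
  · rw [hw _ (v * u x) (by rw [map_mul, Perm.mul_apply, hu]), map_mul, mul_smul]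
    rfl
  · ext z
    constructor
    · rintro ⟨i, rfl⟩
      exact mem_orbit b _
    · rintro ⟨h, rfl⟩
      exact ⟨α (e h) p, by rw [hw _ (e h) rfl, e.symm_apply_apply]⟩

theorem card_map_stab {a b : Ω} (e : stabilizer G a ≃* P6) {n : ℕ}
    (hb : (orbit (stabilizer G a) b).ncard = n) :
    n * Nat.card ((stabilizer (stabilizer G a) b).map e.toMonoidHom) = 251596800 := by
  rw [Subgroup.card_map_of_injective e.injective, ← hb, ← index_stabilizer, mul_comm,
    Subgroup.card_mul_index, Nat.card_congr e.toEquiv, card_P6]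

/-- The action on the vertices. -/
noncomputable def rho : P6 →* Perm V where
  toFun u := Equiv.optionCongr (Equiv.sumCongr (act u) (lact u))
  map_one' := by ext (_ | _ | _) <;> simp
  map_mul' u v := by ext (_ | _ | _) <;> simp

theorem rho_none (u : P6) : rho u none = none := rfl

theorem rho_inl (u : P6) (p : Fin 416) : rho u (some (.inl p)) = some (.inl (act u p)) := rfl

theorem rho_inr (u : P6) (C : Fin 1365) : rho u (some (.inr C)) = some (.inr (lact u C)) := rfl

theorem maskJ_ok : ∀ b0 b1 b2 : Bool, [b0, b1, b2].getD (labJf 0 (fxp 0).val) false = false →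
    ((unionSize (labJf 0) [b0, b1, b2] = 100 → b0 = false ∧ b1 = true ∧ b2 = false) ∧
      unionSize (labJf 0) [b0, b1, b2] ∈ [0, 100, 315, 415]) := by
  decide +kernel

/-- A rank 3 group with these subdegrees and stabiliser acts on the canonical graph. -/
theorem exists_tau [Finite G] [Fintype Ω] [IsPretransitive G Ω] [FaithfulSMul G Ω]
    (hΩ : Fintype.card Ω = 1782) (a b c : Ω) (e : stabilizer G a ≃* P6)
    (hb : (orbit (stabilizer G a) b).ncard = 416) (hc : (orbit (stabilizer G a) c).ncard = 1365) :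
    ∃ τ : G →* Perm V, Function.Injective τ ∧ τ.range ≤ autV ∧ rho.range ≤ τ.range ∧
      (∀ σ ∈ τ.range, σ none = none → σ ∈ rho.range) ∧ Nat.card τ.range = 1782 * 251596800 := by
  classical
  obtain ⟨Γ, lam, mu, hinv, hO1, hfar, hdeg, hadj, hnadj, hlt, hpar⟩ :=
    CfsgLib.McLRec.exists_orbital_graph a b c hb hc (by norm_num) (by norm_num) (by norm_num)
      (by rw [hΩ])
  -- the 416 points
  have hH1 := card_map_stab e hb
  obtain ⟨p, hp⟩ := exists_St (H := (stabilizer (stabilizer G a) b).map e.toMonoidHom) (by omega)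
  obtain ⟨f1, hf1p, hf1inj, hf1eq, hf1r⟩ := exists_transport act
    (fun i j => let ⟨u, _, h⟩ := conn_top_all i j; ⟨u, h⟩) e b p fun h => by
      rw [← mem_St, ← hp, show e h = e.toMonoidHom h from rfl, Subgroup.mem_map_iff_mem e.injective]
      rfl
  have hfix : ∀ u, (e.symm u).1 • a = a := fun u => (e.symm u).2
  have hAf1 : ∀ i, Γ.Adj a (f1 i) := fun i => (hO1 _).2 (hf1r ▸ Set.mem_range_self i)
  have hR1 : ∀ z, Γ.Adj a z → ∃ i, f1 i = z := fun z h => by
    have h' := (hO1 z).1 h
    rw [← hf1r] at h'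
    exact h'
  -- the local graph
  let L : Set (Fin 416) := {i | Γ.Adj (f1 (fxp 0)) (f1 i)}
  have hLinv : ∀ u ∈ St (fxp 0), ∀ i, i ∈ L → act u i ∈ L := by
    intro u hu i hi
    show Γ.Adj (f1 (fxp 0)) (f1 (act u i))
    rw [show f1 (fxp 0) = f1 (act u (fxp 0)) from congrArg f1 (mem_St.1 hu).symm, hf1eq, hf1eq, hinv]
    exact hi
  have hLcard : L.ncard = lam := by
    rw [← hadj a (f1 (fxp 0)) (hAf1 _), ← Set.ncard_image_of_injective L hf1inj]
    congr 1
    ext z
    constructor
    · rintro ⟨i, hi, rfl⟩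
      exact ⟨hAf1 i, hi⟩
    · rintro ⟨h1, h2⟩
      obtain ⟨i, rfl⟩ := hR1 z h1
      exact ⟨i, h2, rfl⟩
  let cJ : List Bool := (List.range 3).map fun l => decide (∃ i ∈ L, labJf 0 i.val = l)
  have hlabJ : ∀ i : Fin 416, labJf 0 i.val < 3 := fun i => by
    simpa using allB_iff.1 (labJ_facts 0 (by norm_num)).1 i.val i.isLt
  have hcJ : ∀ i : Fin 416, i ∈ L ↔ cJ.getD (labJf 0 i.val) false = true := by
    intro i
    rw [List.getD_eq_getElem _ _ (by simpa [cJ] using hlabJ i)]
    simp only [cJ, List.getElem_map, List.getElem_range, decide_eq_true_eq]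
    refine ⟨fun h => ⟨i, h, rfl⟩, fun ⟨j, hj, e'⟩ => ?_⟩
    obtain ⟨u, hu, rfl⟩ := coarse_St (pi := 0) (by norm_num) j i e'
    exact hLinv u hu j hj
  obtain ⟨b0, b1, b2, hcJ'⟩ : ∃ b0 b1 b2, cJ = [b0, b1, b2] := ⟨_, _, _, rfl⟩
  obtain ⟨hmask, hsizes⟩ := maskJ_ok b0 b1 b2 (by
    rw [← hcJ', Bool.eq_false_iff]
    exact fun h => Γ.irrefl ((hcJ _).2 h))
  have hsize : unionSize (labJf 0) [b0, b1, b2] = lam := by
    rw [← hLcard, unionSize, ← List.toFinset_card_of_nodup ((List.nodup_range).filter _),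
      ← Set.ncard_coe_finset, ← Set.ncard_image_of_injective L Fin.val_injective]
    congr 1
    ext v
    simp only [List.coe_toFinset, Set.mem_setOf_eq, List.mem_filter, List.mem_range, Set.mem_image]
    rw [← hcJ']
    exact ⟨fun ⟨hv, h⟩ => ⟨⟨v, hv⟩, (hcJ _).2 h, rfl⟩, fun ⟨D, hD, e'⟩ => e' ▸ ⟨D.isLt, (hcJ D).1 hD⟩⟩
  have h415 : lam ≠ 415 := by
    intro h
    subst h
    have htr : ∀ x y, Γ.Adj x y → ∀ z, Γ.Adj y z → z ≠ x → Γ.Adj x z := by
      intro x y hxy z hyz hzx
      have hsub : {z | Γ.Adj x z ∧ Γ.Adj y z} ⊆ {z | Γ.Adj y z} \ {x} := fun w hw => ⟨hw.2, hw.1.ne'⟩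
      have heq := Set.eq_of_subset_of_ncard_le hsub (by
        rw [Set.ncard_diff_singleton_of_mem (show x ∈ {z | Γ.Adj y z} from hxy.symm), hdeg, hadj x y hxy])
        (Set.toFinite _)
      exact (heq.symm ▸ (⟨hyz, hzx⟩ : z ∈ {z | Γ.Adj y z} \ {x}) : z ∈ {z | Γ.Adj x z ∧ Γ.Adj y z}).1
    let B : Ω → Finset Ω := fun x => Finset.univ.filter fun y => y = x ∨ Γ.Adj x y
    have hmem : ∀ x y, y ∈ B x ↔ y = x ∨ Γ.Adj x y := fun x y => by simp [B]
    have hB : ∀ x y, y ∈ B x → B y = B x := by
      intro x y hy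
      rcases (hmem x y).1 hy with rfl | hy
      · rfl
      · ext z
        rw [hmem, hmem]
        constructor
        · rintro (rfl | hz)
          · exact Or.inr hy
          · by_cases hzx : z = x
            exacts [Or.inl hzx, Or.inr (htr x y hy z hz hzx)]
        · rintro (rfl | hz)
          · exact Or.inr hy.symm
          · by_cases hzy : z = y
            exacts [Or.inl hzy, Or.inr (htr y x hy.symm z hz hzy)]
    have hcardB : ∀ x, (B x).card = 417 := by
      intro x
      have : B x = insert x (Finset.univ.filter fun y => Γ.Adj x y) := by ext y; simp [B]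
      rw [this, Finset.card_insert_of_notMem (by simp)]
      have h := hdeg x
      rw [← Set.ncard_coe_finset]
      simpa using h
    have htot := Finset.card_eq_sum_card_fiberwise (s := Finset.univ) (t := Finset.univ.image B) (f := B)
      fun x _ => Finset.mem_image_of_mem _ (Finset.mem_univ x)
    have hfib : ∀ F ∈ Finset.univ.image B, (Finset.univ.filter fun x => B x = F).card = 417 := by
      intro F hF
      obtain ⟨x, -, rfl⟩ := Finset.mem_image.1 hF
      rw [show (Finset.univ.filter fun y => B y = B x) = B x from ?_, hcardB]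
      ext y
      simp only [Finset.mem_filter, Finset.mem_univ, true_and]
      exact ⟨fun e' => e' ▸ (hmem y y).2 (Or.inl rfl), hB x y⟩
    rw [Finset.sum_congr rfl hfib, Finset.sum_const, smul_eq_mul, Finset.card_univ, hΩ] at htot
    omega
  have hlam : lam = 100 := by
    rw [hsize] at hsizes
    simp only [List.mem_cons, List.not_mem_nil, or_false] at hsizes
    rcases hsizes with h | h | h | h
    · subst h; omega
    · exact h
    · subst h; omega
    · exact absurd h h415
  subst hlam
  have hmu : mu = 96 := by omega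
  subst hmu
  obtain ⟨rfl, rfl, rfl⟩ := hmask hsize
  have hloc : ∀ i j, Γ.Adj (f1 i) (f1 j) ↔ Nb i j := by
    intro i j
    obtain ⟨u, -, rfl⟩ := conn_top_all (fxp 0) i
    obtain ⟨j, rfl⟩ := (act u).surjective j
    rw [hf1eq, hf1eq, hinv, nb_act, nb_fxp_iff]
    show j ∈ L ↔ _
    rw [hcJ, hcJ']
    have := hlabJ j
    interval_cases labJf 0 j.val <;> simp
  -- the 1365 lines
  have hca : c ≠ a := by
    intro h
    have h1 : orbit (stabilizer G a) c = {a} := by
      ext z
      constructor
      · rintro ⟨g, rfl⟩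
        show g.1 • c = a
        rw [h]; exact g.2
      · intro hz
        refine ⟨1, ?_⟩
        show (1 : stabilizer G a) • c = z
        rw [one_smul, h]
        exact hz.symm
    rw [h1, Set.ncard_singleton] at hc
    norm_num at hc
  have hcn : ¬ Γ.Adj a c := fun h => by
    rw [orbit_eq_iff.2 ((hO1 c).1 h)] at hc
    rw [hb] at hc
    norm_num at hc
  let X : Finset (Fin 416) := Finset.univ.filter fun i => Γ.Adj c (f1 i)
  have hXc : X.card = 96 := by
    rw [← hnadj a c hca.symm hcn, ← Set.ncard_coe_finset X,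
      ← Set.ncard_image_of_injective (↑X) hf1inj]
    congr 1
    ext z
    simp only [X, Finset.coe_filter, Finset.mem_univ, true_and, Set.mem_image, Set.mem_setOf_eq]
    constructor
    · rintro ⟨i, hi, rfl⟩
      exact ⟨hAf1 i, hi⟩
    · rintro ⟨h1, h2⟩
      obtain ⟨i, rfl⟩ := hR1 z h1
      exact ⟨i, h2, rfl⟩
  have hH2 := card_map_stab e hc
  obtain ⟨C, hX, hC⟩ := exists_row (H := (stabilizer (stabilizer G a) c).map e.toMonoidHom) (by omega)
    (X := X) (fun g hg i hi => by
      obtain ⟨h, hh, rfl⟩ := hg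
      simp only [X, Finset.mem_filter, Finset.mem_univ, true_and] at hi ⊢
      rw [hf1eq, show e.symm (e.toMonoidHom h) = h from e.symm_apply_apply h,
        ← show h.1 • c = c from hh, hinv]
      exact hi) hXc
  obtain ⟨f2, hf2C, hf2inj, hf2eq, hf2r⟩ := exists_transport lact
    (fun i j => let ⟨u, _, h⟩ := connL_top_all i j; ⟨u, h⟩) e c C fun h => by
      rw [← mem_LSt, ← hC, show e h = e.toMonoidHom h from rfl, Subgroup.mem_map_iff_mem e.injective]
      rfl
  have hAf2 : ∀ D, f2 D ≠ a ∧ ¬ Γ.Adj a (f2 D) := by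
    intro D
    obtain ⟨u, -, rfl⟩ := connL_top_all C D
    rw [hf2eq, hf2C]
    exact ⟨fun h => hca (MulAction.injective (e.symm u).1 (h.trans (hfix u).symm)),
      fun h => hcn ((hinv (e.symm u).1 a c).1 (by simpa only [hfix u] using h))⟩
  have hrow : ∀ D i, Γ.Adj (f2 D) (f1 i) ↔ i ∈ row D := by
    intro D i
    obtain ⟨u, -, rfl⟩ := connL_top_all C D
    obtain ⟨i, rfl⟩ := (act u).surjective i
    rw [hf2eq, hf1eq, hinv, hf2C, row_act, ← hX, (act u).injective.mem_finset_image]
    simp [X]
  have hR2 : ∀ z, z ≠ a → ¬ Γ.Adj a z → ∃ D, f2 D = z := fun z h h' => by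
    have := hfar z h h'
    rw [← hf2r] at this
    exact this
  let S : Set (Fin 1365) := {D | Γ.Adj (f2 line0) (f2 D)}
  have hS : S = T0 := by
    refine t0_unique (fun g hg D hD => ?_) Γ.irrefl ?_
    · show Γ.Adj (f2 line0) (f2 (lact g D))
      rw [show f2 line0 = f2 (lact g line0) from congrArg f2 (mem_LSt.1 hg).symm, hf2eq, hf2eq, hinv]
      exact hD
    · have hun : {z | Γ.Adj (f2 line0) z} = f1 '' ↑(row line0) ∪ f2 '' S := by
        ext z
        constructor
        · intro hz
          by_cases h1 : Γ.Adj a z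
          · obtain ⟨i, rfl⟩ := hR1 z h1
            exact Or.inl ⟨i, (hrow _ _).1 hz, rfl⟩
          · have hza : z ≠ a := fun e' => (hAf2 line0).2 (e' ▸ hz : Γ.Adj (f2 line0) a).symm
            obtain ⟨D, rfl⟩ := hR2 z hza h1
            exact Or.inr ⟨D, hz, rfl⟩
        · rintro (⟨i, hi, rfl⟩ | ⟨D, hD, rfl⟩)
          exacts [(hrow _ _).2 hi, hD]
      have hd : Disjoint (f1 '' ↑(row line0)) (f2 '' S) := by
        rw [Set.disjoint_left]
        rintro _ ⟨i, -, rfl⟩ ⟨D, -, e'⟩
        exact (hAf2 D).2 (e' ▸ hAf1 i)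
      have h := hdeg (f2 line0)
      rw [hun, Set.ncard_union_eq hd, Set.ncard_image_of_injective _ hf1inj,
        Set.ncard_image_of_injective _ hf2inj, Set.ncard_coe_finset, card_row] at h
      omega
  have hll : ∀ D E, Γ.Adj (f2 D) (f2 E) ↔ Adj2 D E := by
    intro D E
    have key : ∀ g, lact g line0 = D → (Γ.Adj (f2 D) (f2 E) ↔ lact g⁻¹ E ∈ T0) := by
      intro g hg
      rw [← hS]
      show _ ↔ Γ.Adj (f2 line0) (f2 (lact g⁻¹ E))
      conv_lhs => rw [← hg, hf2eq, ← show lact g (lact g⁻¹ E) = E by simp [map_inv], hf2eq, hinv]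
    constructor
    · intro h
      obtain ⟨g, -, hg⟩ := connL_top_all line0 D
      exact ⟨g, hg, (key g hg).1 h⟩
    · rintro ⟨g, hg, hE⟩
      exact (key g hg).2 hE
  -- the labelling
  let lb : V → Ω := fun v => v.elim a (Sum.elim f1 f2)
  have hlinj : Function.Injective lb := by
    rintro (_ | i | D) (_ | j | E) h
    all_goals simp only [lb, Option.elim, Sum.elim_inl, Sum.elim_inr] at h
    · rfl
    · exact absurd (h ▸ hAf1 j) Γ.irrefl
    · exact absurd h.symm (hAf2 E).1
    · exact absurd (h ▸ hAf1 i) Γ.irrefl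
    · rw [hf1inj h]
    · exact absurd (h ▸ hAf1 i) (hAf2 E).2
    · exact absurd h (hAf2 D).1
    · exact absurd (h.symm ▸ hAf1 j) (hAf2 D).2
    · rw [hf2inj h]
  let Λ : V ≃ Ω := Equiv.ofBijective lb ((Fintype.bijective_iff_injective_and_card lb).2
    ⟨hlinj, by rw [card_V, hΩ]⟩)
  have hR : ∀ x y, R x y ↔ Γ.Adj (Λ x) (Λ y) := by
    rintro (_ | i | D) (_ | j | E)
    · exact iff_of_false id Γ.irrefl
    · exact iff_of_true trivial (hAf1 j)
    · exact iff_of_false id (hAf2 E).2
    · exact iff_of_true trivial (hAf1 i).symm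
    · exact (hloc i j).symm
    · exact (hrow E i).symm.trans (Γ.adj_comm _ _)
    · exact iff_of_false id fun h => (hAf2 D).2 h.symm
    · exact (hrow D j).symm
    · exact (hll D E).symm
  let τ : G →* Perm V := (Λ.symm.permCongrHom).toMonoidHom.comp (MulAction.toPermHom G Ω)
  have hτ : ∀ g x, Λ (τ g x) = g • Λ x := fun g x => by simp [τ, Equiv.permCongr_apply]
  have hτinj : Function.Injective τ := fun g h e' => FaithfulSMul.eq_of_smul_eq_smul (α := Ω) fun z => by
    obtain ⟨x, rfl⟩ := Λ.surjective z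
    rw [← hτ, ← hτ, e']
  have hτrho : ∀ u, τ (e.symm u).1 = rho u := fun u => Equiv.ext fun x => Λ.injective (by
    rw [hτ]
    rcases x with _ | i | D
    · exact (hfix u).trans rfl
    · exact (hf1eq u i).symm
    · exact (hf2eq u D).symm)
  refine ⟨τ, hτinj, ?_, ?_, ?_, ?_⟩
  · rintro _ ⟨g, rfl⟩ x y
    rw [hR, hR, hτ, hτ, hinv]
  · rintro _ ⟨u, rfl⟩
    exact ⟨_, hτrho u⟩
  · rintro _ ⟨g, rfl⟩ hg
    have hga : g • a = a := by
      have := hτ g none
      rw [hg] at this
      exact this.symm
    exact ⟨e ⟨g, hga⟩, by rw [← hτrho, e.symm_apply_apply]⟩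
  · rw [← Nat.card_congr (MonoidHom.ofInjective hτinj).toEquiv,
      ← (stabilizer G a).card_mul_index, Nat.card_congr e.toEquiv, card_P6, index_stabilizer,
      MulAction.orbit_eq_univ, Set.ncard_univ, Nat.card_eq_fintype_card, hΩ]

theorem rho_card : Nat.card rho.range = 251596800 := by
  refine (Nat.card_congr (MonoidHom.ofInjective ?_).toEquiv).symm.trans card_P6
  intro u v h
  refine act_injective (Equiv.ext fun i => ?_)
  have := Equiv.ext_iff.1 h (some (.inl i))
  simpa [rho_inl] using this

/-- Two such groups coincide. -/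
theorem eq_of_reps {G1 G2 : Subgroup (Perm V)} (h1 : G1 ≤ autV) (h2 : G2 ≤ autV)
    (r1 : rho.range ≤ G1) (r2 : rho.range ≤ G2)
    (s1 : ∀ σ ∈ G1, σ none = none → σ ∈ rho.range)
    (c1 : Nat.card G1 = 1782 * 251596800) (c2 : Nat.card G2 = 1782 * 251596800) : G1 = G2 := by
  classical
  let M := G1 ⊓ G2
  have hMst : Nat.card (stabilizer M (none : V)) = 251596800 := by
    rw [← rho_card]
    refine Nat.card_congr
      { toFun := fun σ => ⟨σ.1.1, s1 _ σ.1.2.1 σ.2⟩
        invFun := fun σ => ⟨⟨σ.1, r1 σ.2, r2 σ.2⟩, by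
          obtain ⟨u, hu⟩ := σ.2
          show σ.1 none = none
          rw [← hu]; rfl⟩
        left_inv := fun _ => rfl
        right_inv := fun _ => rfl }
  have hM : Nat.card M = (orbit M (none : V)).ncard * 251596800 := by
    rw [← hMst, ← index_stabilizer, mul_comm, Subgroup.card_mul_index]
  have hdvd : (orbit M (none : V)).ncard ∣ 1782 := by
    have h := Subgroup.card_dvd_of_le (inf_le_left : M ≤ G1)
    rw [hM, c1] at h
    exact Nat.dvd_of_mul_dvd_mul_right (by norm_num) h
  rcases em (∃ x : Fin 416 ⊕ Fin 1365, some x ∈ orbit M (none : V)) with ⟨x, hx⟩ | hno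
  · -- the orbit contains one of the two suborbits
    have h417 : 417 ≤ (orbit M (none : V)).ncard := by
      have hru : ∀ u, rho u ∈ M := fun u => ⟨r1 ⟨u, rfl⟩, r2 ⟨u, rfl⟩⟩
      rcases x with i | D
      · have hsub : insert (none : V) (Set.range fun j : Fin 416 => (some (.inl j) : V)) ⊆ orbit M none := by
          rintro z (rfl | ⟨j, rfl⟩)
          · exact mem_orbit_self _
          · obtain ⟨u, -, rfl⟩ := conn_top_all i j
            exact mem_orbit_of_mem_orbit ⟨rho u, hru u⟩ hx
        refine le_trans (le_of_eq ?_) (Set.ncard_le_ncard hsub (Set.toFinite _))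
        rw [Set.ncard_insert_of_notMem (by simp), Set.ncard_range_of_injective (fun p q h => by simpa using h),
          Nat.card_fin]
      · have hsub : insert (none : V) (Set.range fun j : Fin 1365 => (some (.inr j) : V)) ⊆ orbit M none := by
          rintro z (rfl | ⟨j, rfl⟩)
          · exact mem_orbit_self _
          · obtain ⟨u, -, rfl⟩ := connL_top_all D j
            exact mem_orbit_of_mem_orbit ⟨rho u, hru u⟩ hx
        refine le_trans ?_ (Set.ncard_le_ncard hsub (Set.toFinite _))
        rw [Set.ncard_insert_of_notMem (by simp), Set.ncard_range_of_injective (fun p q h => by simpa using h),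
          Nat.card_fin]
        norm_num
    have hn : (orbit M (none : V)).ncard = 1782 ∨ (orbit M (none : V)).ncard = 891 ∨
        (orbit M (none : V)).ncard = 594 := by
      obtain ⟨k, hk⟩ := hdvd
      generalize (orbit M (none : V)).ncard = n at hk h417
      have hn417 : 417 ≤ n := h417
      have hk4 : k ≤ 4 := by
        by_contra h
        have := Nat.mul_le_mul hn417 (show 5 ≤ k by omega)
        omega
      interval_cases k <;> omega
    rcases hn with hn | hn | hn
    · have e1 : M = G1 := Subgroup.eq_of_le_of_card_ge inf_le_left (by rw [hM, hn, c1])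
      have e2 : M = G2 := Subgroup.eq_of_le_of_card_ge inf_le_right (by rw [hM, hn, c2])
      exact e1.symm.trans e2
    all_goals
      exfalso
      have hsum : ∀ σ : M, ∀ x : Fin 416, (some (.inl x) : V) ∈ orbit M (none : V) →
          ∀ y : Fin 416, (some (.inl y) : V) ∈ orbit M (none : V) := by
        intro _ x hx y
        obtain ⟨u, -, rfl⟩ := conn_top_all x y
        exact mem_orbit_of_mem_orbit (⟨rho u, r1 ⟨u, rfl⟩, r2 ⟨u, rfl⟩⟩ : M) hx
      have hsum' : ∀ x : Fin 1365, (some (.inr x) : V) ∈ orbit M (none : V) →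
          ∀ y : Fin 1365, (some (.inr y) : V) ∈ orbit M (none : V) := by
        intro x hx y
        obtain ⟨u, -, rfl⟩ := connL_top_all x y
        exact mem_orbit_of_mem_orbit (⟨rho u, r1 ⟨u, rfl⟩, r2 ⟨u, rfl⟩⟩ : M) hx
      by_cases hin : ∃ y : Fin 1365, (some (.inr y) : V) ∈ orbit M (none : V)
      · obtain ⟨y, hy⟩ := hin
        have hsub : insert (none : V) (Set.range fun j : Fin 1365 => (some (.inr j) : V)) ⊆ orbit M none := by
          rintro z (rfl | ⟨j, rfl⟩)
          exacts [mem_orbit_self _, hsum' y hy j]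
        have := Set.ncard_le_ncard hsub (Set.toFinite _)
        rw [Set.ncard_insert_of_notMem (by simp), Set.ncard_range_of_injective (fun p q h => by simpa using h),
          Nat.card_fin] at this
        omega
      · have hsub : orbit M none ⊆ insert (none : V) (Set.range fun j : Fin 416 => (some (.inl j) : V)) := by
          rintro (_ | j | j) hj
          exacts [Or.inl rfl, Or.inr ⟨j, rfl⟩, absurd ⟨j, hj⟩ hin]
        have := Set.ncard_le_ncard hsub (Set.toFinite _)
        rw [Set.ncard_insert_of_notMem (by simp), Set.ncard_range_of_injective (fun p q h => by simpa using h),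
          Nat.card_fin] at this
        omega
  · exfalso
    have hsing : orbit M (none : V) = {none} := by
      refine Set.eq_singleton_iff_unique_mem.2 ⟨mem_orbit_self _, fun z hz => ?_⟩
      rcases z with _ | x
      exacts [rfl, absurd ⟨x, hz⟩ hno]
    rw [hsing, Set.ncard_singleton, one_mul] at hM
    have hA : Nat.card G2 * G2.relIndex autV = Nat.card autV := by
      rw [Subgroup.relIndex, ← Nat.card_congr (Subgroup.subgroupOfEquivOfLe h2).toEquiv]
      exact Subgroup.card_mul_index _
    have hB : Nat.card M * G2.relIndex G1 = Nat.card G1 := by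
      rw [← Subgroup.inf_relIndex_left G1 G2, Subgroup.relIndex,
        ← Nat.card_congr (Subgroup.subgroupOfEquivOfLe (inf_le_left : M ≤ G1)).toEquiv]
      exact Subgroup.card_mul_index _
    have hle : G2.relIndex G1 ≤ G2.relIndex autV :=
      Subgroup.relIndex_le_of_le_right h1 fun h0 => by
        rw [h0, mul_zero] at hA
        exact absurd hA.symm Nat.card_pos.ne'
    rw [hM, c1] at hB
    rw [c2] at hA
    have := card_autV_le
    have h5 := Nat.mul_le_mul_left (1782 * 251596800) hle
    omega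

end CfsgLib.SuzRank
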