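import Cfsg.Agent.SuzRank.Points

/-!
# The class of elements of order three with centraliser `3.L₃(4)`

Members are coded by their matrices in the six-dimensional representation.
-/

set_option autoImplicit false
set_option maxRecDepth 100000

namespace CfsgLib.SuzRank

open Cfsg.Lie CfsgLib.CosetEnum CfsgLib.CriticalFive CfsgLib.GTwoFour CfsgLib.SuzG2 Matrix
open scoped MatrixGroups

/-- The matrix of an element. -/
noncomputable def mR (g : P6) : M6 := ((GTwoFour.rep (SuzG2.hom g) : GL (Fin 6) F4) : M6)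

theorem mR_injective : Function.Injective mR := fun _ _ h =>
  hom_bijective.1 (rep_injective (Units.ext h))

theorem mR_mul (g h : P6) : mR (g * h) = mR g * mR h := by simp [mR, map_mul]

theorem mR_one : mR 1 = 1 := by simp [mR]

theorem genW_lt : ∀ a < 6, ∀ x ∈ Tab.genW.getD a [], x < 24 := by decide +kernel

theorem expand_lt {w : List ℕ} (hw : ∀ a ∈ w, a < 6) : ∀ x ∈ expand w, x < 24 := by
  intro x hx
  simp only [expand, List.mem_flatMap] at hx
  obtain ⟨a, ha, hx⟩ := hx
  exact genW_lt a (hw a ha) x hx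

theorem hom_el : ∀ {w : List ℕ}, (∀ a ∈ w, a < 6) → SuzG2.hom (el w) = prodw genElt w
  | [], _ => map_one _
  | a :: w, h => by
    rw [el, prodw_cons, map_mul, ← el, hom_el fun b hb => h b (List.mem_cons_of_mem a hb), prodw_cons]
    congr 1
    refine (hom_of _).trans ?_
    show genElt (ix (en a)) = genElt a
    exact congrArg genElt (SuzG2.setup.ix_en a (h a List.mem_cons_self))

theorem dec_walk {w : List ℕ} (hw : ∀ a ∈ w, a < 6) (n : ℕ) :
    dec (walkC (expand w) n) = mR (el w) *ᵥ dec n := by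
  rw [dec_walkC _ (expand_lt hw), mR, hom_el hw, prodw_genElt]

/-- The code of a basis vector. -/
def e4 (j : ℕ) : ℕ := 4 ^ j

theorem dec_e4 : ∀ j : Fin 6, dec (e4 j.val) = Pi.single j (1 : F4) := by decide +kernel

/-- Multiplication by the generator of the field on codes. -/
def mw (n : ℕ) : ℕ := ((n >>> 1) &&& 0x555) ||| ((((n &&& 0x555) ^^^ ((n >>> 1) &&& 0x555))) <<< 1)

theorem dec_mw : ∀ n < 4096, ∀ i : Fin 6, dec (mw n) i = dec n i * w1 := by decide +kernel

/-- A scalar multiple of a code. -/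
def scl (c k : ℕ) : ℕ :=
  (bif k.testBit 0 then c else 0) ^^^ (bif k.testBit 1 then mw c else 0)

theorem dec_zero : dec 0 = 0 := by decide +kernel

theorem ofC_eq : ∀ k < 4, ofC k = (bif k.testBit 0 then 1 else 0) + (bif k.testBit 1 then w1 else 0) := by
  decide +kernel

theorem dec_scl {c k : ℕ} (hc : c < 4096) (hk : k < 4) (i : Fin 6) :
    dec (scl c k) i = dec c i * ofC k := by
  rw [scl, dec_xor, Pi.add_apply, ofC_eq k hk, mul_add]
  congr 1 <;> cases k.testBit _ <;> simp [dec_zero, dec_mw c hc i]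

/-- A column of a code. -/
def col (M j : ℕ) : ℕ := SuzRank.ent 12 M j

theorem col_lt (M j : ℕ) : col M j < 4096 := Nat.mod_lt _ (by norm_num)

/-- A coded matrix applied to a coded vector. -/
def appM (M n : ℕ) : ℕ :=
  scl (col M 0) (SuzG2.ent n 0) ^^^ scl (col M 1) (SuzG2.ent n 1) ^^^ scl (col M 2) (SuzG2.ent n 2) ^^^
    scl (col M 3) (SuzG2.ent n 3) ^^^ scl (col M 4) (SuzG2.ent n 4) ^^^ scl (col M 5) (SuzG2.ent n 5)

/-- The matrix of a code. -/
def matM (M : ℕ) : M6 := Matrix.of fun i j => dec (col M j.val) i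

theorem dec_appM (M n : ℕ) : dec (appM M n) = matM M *ᵥ dec n := by
  funext i
  simp only [appM, dec_xor, Pi.add_apply, Matrix.mulVec, dotProduct, Fin.sum_univ_six,
    dec_scl (col_lt M _) (ent_lt n _)]
  rw [show ofC (SuzG2.ent n 0) = dec n 0 from ofC_ent n 0, show ofC (SuzG2.ent n 1) = dec n 1 from ofC_ent n 1,
    show ofC (SuzG2.ent n 2) = dec n 2 from ofC_ent n 2, show ofC (SuzG2.ent n 3) = dec n 3 from ofC_ent n 3,
    show ofC (SuzG2.ent n 4) = dec n 4 from ofC_ent n 4, show ofC (SuzG2.ent n 5) = dec n 5 from ofC_ent n 5]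
  rfl

theorem matM_single (M : ℕ) (j : Fin 6) : matM M *ᵥ Pi.single j 1 = dec (col M j.val) := by
  funext i
  simp [matM]

/-- An element has a given code. -/
def Rep (M : ℕ) (g : P6) : Prop := matM M = mR g

theorem Rep.unique {M : ℕ} {g h : P6} (hg : Rep M g) (hh : Rep M h) : g = h :=
  mR_injective (hg.symm.trans hh)

/-- The check that a word has a given code. -/
def codeOK (w : List ℕ) (M : ℕ) : Bool :=
  w.all (fun a => Nat.blt a 6) && allB 6 fun j => walkC (expand w) (e4 j) == col M j

theorem rep_of_code {w : List ℕ} {M : ℕ} (h : codeOK w M = true) : Rep M (el w) := by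
  simp only [codeOK, Bool.and_eq_true, List.all_eq_true, Nat.blt_eq, allB_iff, beq_iff_eq] at h
  refine Matrix.ext_of_mulVec_single fun j => ?_
  rw [matM_single, ← h.2 j.val j.isLt, dec_walk h.1, dec_e4]

/-- The code of a member of the class. -/
def cls (k : ℕ) : ℕ := blk 72 Data.clsB k

/-- Conjugation of the class by a letter. -/
def sg (i k : ℕ) : ℕ := SuzRank.ent 12 (Data.sgT.getD i 0) k

theorem sg_inv : ∀ i < 6, invTabOK 2080 12 (Data.sgT.getD i 0) = true := by decide +kernel

/-- A column of a conjugate. -/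
def cj (i k j : ℕ) : ℕ :=
  force (walkC (Tab.genW.getD i []) (e4 j)) fun a =>
    force (appM (cls k) a) fun b => walkC (Tab.genW.getD i []) b

/-- The check of a conjugation. -/
def conjAt (i k : ℕ) : Bool :=
  force (cls (sg i k)) fun M =>
    (allB 6 fun j => cj i k j == col M j) || (allB 6 fun j => appM M (cj i k j) == e4 j)

theorem conj_ok_0 : (allB 2080 fun k => conjAt 0 k) = true := by decide +kernel
theorem conj_ok_1 : (allB 2080 fun k => conjAt 1 k) = true := by decide +kernel
theorem conj_ok_2 : (allB 2080 fun k => conjAt 2 k) = true := by decide +kernel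
theorem conj_ok_3 : (allB 2080 fun k => conjAt 3 k) = true := by decide +kernel
theorem conj_ok_4 : (allB 2080 fun k => conjAt 4 k) = true := by decide +kernel
theorem conj_ok_5 : (allB 2080 fun k => conjAt 5 k) = true := by decide +kernel

theorem conj_ok {i : ℕ} (hi : i < 6) {k : ℕ} (hk : k < 2080) : conjAt i k = true := by
  interval_cases i
  exacts [allB_iff.1 conj_ok_0 k hk, allB_iff.1 conj_ok_1 k hk, allB_iff.1 conj_ok_2 k hk,
    allB_iff.1 conj_ok_3 k hk, allB_iff.1 conj_ok_4 k hk, allB_iff.1 conj_ok_5 k hk]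

theorem el_singleton (i : ℕ) : el [i] = SuzG2.setup.g i := by simp [el, prodw]

theorem expand_singleton (i : ℕ) : expand [i] = Tab.genW.getD i [] := by simp [expand]

theorem rep_gen_conj {i k : ℕ} (hi : i < 6) (hk : k < 2080) {y : P6} (hy : Rep (cls k) y) :
    Rep (cls (sg i k)) (SuzG2.setup.g i * y * SuzG2.setup.g i) ∨
      Rep (cls (sg i k)) (SuzG2.setup.g i * y * SuzG2.setup.g i)⁻¹ := by
  set z := SuzG2.setup.g i * y * SuzG2.setup.g i with hz
  have hw : ∀ a ∈ [i], a < 6 := by simpa using hi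
  have hcj : ∀ j : Fin 6, dec (cj i k j.val) = mR z *ᵥ Pi.single j 1 := by
    intro j
    rw [cj, force_eq, force_eq, ← expand_singleton, dec_walk hw, dec_appM, dec_walk hw, dec_e4, hy,
      el_singleton, hz, mR_mul, mR_mul, Matrix.mulVec_mulVec, Matrix.mulVec_mulVec, Matrix.mul_assoc]
  have h := conj_ok hi hk
  simp only [conjAt, force_eq, Bool.or_eq_true, allB_iff, beq_iff_eq] at h
  rcases h with h | h
  · exact Or.inl (Matrix.ext_of_mulVec_single fun j => by rw [matM_single, ← h j.val j.isLt, hcj])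
  · right
    have h1 : matM (cls (sg i k)) * mR z = 1 := Matrix.ext_of_mulVec_single fun j => by
      rw [← Matrix.mulVec_mulVec, ← hcj, ← dec_appM, h j.val j.isLt, dec_e4, Matrix.one_mulVec]
    show matM _ = mR z⁻¹
    rw [← Matrix.mul_one (matM _), ← mR_one, ← mul_inv_cancel z, mR_mul, ← Matrix.mul_assoc, h1,
      Matrix.one_mul]

/-- Conjugation of the class by a word. -/
def sgW (w : List ℕ) (k : ℕ) : ℕ := wimg 12 Data.sgT w k

theorem sgW_lt : ∀ {w : List ℕ}, (∀ a ∈ w, a < 6) → ∀ {k : ℕ}, k < 2080 → sgW w k < 2080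
  | [], _, _, hk => hk
  | a :: w, h, k, hk =>
    (invTabOK_spec (sg_inv a (h a List.mem_cons_self))
      (sgW_lt (fun b hb => h b (List.mem_cons_of_mem a hb)) hk)).1

theorem sg_sg {i k : ℕ} (hi : i < 6) (hk : k < 2080) : sg i (sg i k) = k :=
  (invTabOK_spec (sg_inv i hi) hk).2

/-- An element or its inverse has the code. -/
def RepPM (k : ℕ) (y : P6) : Prop := Rep (cls k) y ∨ Rep (cls k) y⁻¹

theorem RepPM.inv {k : ℕ} {y : P6} (h : RepPM k y) : RepPM k y⁻¹ := by
  rcases h with h | h
  · exact Or.inr (by rwa [inv_inv])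
  · exact Or.inl h

theorem repPM_conj : ∀ {w : List ℕ}, (∀ a ∈ w, a < 6) → ∀ {k : ℕ}, k < 2080 → ∀ {y : P6},
    RepPM k y → RepPM (sgW w k) (el w * y * (el w)⁻¹)
  | [], _, k, _, y, h => by simpa [el_nil, sgW, wimg] using h
  | a :: w, ha, k, hk, y, h => by
    have hw : ∀ b ∈ w, b < 6 := fun b hb => ha b (List.mem_cons_of_mem a hb)
    have hi := ha a List.mem_cons_self
    have ih := repPM_conj hw hk h
    have hlt := sgW_lt hw hk
    have e : el (a :: w) * y * (el (a :: w))⁻¹ =
        SuzG2.setup.g a * (el w * y * (el w)⁻¹) * SuzG2.setup.g a := by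
      rw [show el (a :: w) = SuzG2.setup.g a * el w from prodw_cons _ a w, _root_.mul_inv_rev,
        inv_eq_of_mul_eq_one_right (g_sq a)]
      group
    rw [e, show sgW (a :: w) k = sg a (sgW w k) from rfl]
    set z := el w * y * (el w)⁻¹
    rcases ih with hz | hz
    · exact rep_gen_conj hi hlt hz
    · have e2 : SuzG2.setup.g a * z * SuzG2.setup.g a =
          (SuzG2.setup.g a * z⁻¹ * SuzG2.setup.g a)⁻¹ := by
        rw [_root_.mul_inv_rev, _root_.mul_inv_rev, inv_inv, inv_eq_of_mul_eq_one_right (g_sq a), mul_assoc]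
      rw [e2]
      exact RepPM.inv (rep_gen_conj hi hlt hz)

/-- A member of the class, up to inversion, in a subgroup. -/
def InD (H : Subgroup P6) (k : ℕ) : Prop := ∃ h ∈ H, Rep (cls k) h

theorem InD.of_repPM {H : Subgroup P6} {k : ℕ} {y : P6} (hy : y ∈ H) (h : RepPM k y) : InD H k :=
  h.elim (fun h => ⟨y, hy, h⟩) fun h => ⟨y⁻¹, H.inv_mem hy, h⟩

theorem InD.conj {H K : Subgroup P6} {w : List ℕ} (hw : ∀ a ∈ w, a < 6) {k : ℕ} (hk : k < 2080)
    (hHK : ∀ h ∈ H, el w * h * (el w)⁻¹ ∈ K) : InD H k → InD K (sgW w k) := fun ⟨h, hh, hr⟩ =>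
  InD.of_repPM (hHK h hh) (repPM_conj hw hk (Or.inl hr))

/-- The base element of the class. -/
noncomputable def y0 : P6 := el Data.wY0

theorem rep_y0 : Rep (cls Data.k0) y0 := rep_of_code (by decide +kernel)

theorem upY_ok : (allB 2080 fun v => decide (SuzRank.ent 3 Data.upY v < 6) &&
    iterB (fun i => if i = Data.k0 then i else sg (SuzRank.ent 3 Data.upY i) i) Data.dY v == Data.k0) =
      true := by decide +kernel

/-- Every code is that of a conjugate of the base element or of its inverse. -/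
theorem exists_rep {k : ℕ} (hk : k < 2080) :
    ∃ g : P6, RepPM k (g * y0 * g⁻¹) := by
  have h := fun v hv => by simpa using allB_iff.1 upY_ok v hv
  refine of_iterB (n := 2080)
    (f := fun i => if i = Data.k0 then i else sg (SuzRank.ent 3 Data.upY i) i)
    (P := fun v => ∃ g : P6, RepPM v (g * y0 * g⁻¹)) (fun v hv => ?_) Data.dY k hk ?_
  · by_cases h0 : v = Data.k0
    · subst h0; simp only [if_pos rfl]; exact ⟨hv, id⟩
    · simp only [if_neg h0]
      have hi := (h v hv).1
      have hlt := (invTabOK_spec (sg_inv _ hi) hv).1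
      refine ⟨hlt, fun ⟨g, hg⟩ => ⟨SuzG2.setup.g (SuzRank.ent 3 Data.upY v) * g, ?_⟩⟩
      have := repPM_conj (w := [SuzRank.ent 3 Data.upY v]) (by simpa using hi) hlt hg
      rw [show sgW [SuzRank.ent 3 Data.upY v] _ = sg _ (sg _ v) from rfl, sg_sg hi hv, el_singleton] at this
      convert this using 1
      group
  · rw [(h k hk).2]
    exact ⟨1, Or.inl (by simpa using rep_y0)⟩

/-- The letters generate. -/
theorem exists_word (g : P6) : ∃ w : List ℕ, (∀ a ∈ w, a < 6) ∧ el w = g := by
  have hg : g ∈ Subgroup.closure (Set.range (PresentedGroup.of : SuzG2.Gen → P6)) := by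
    rw [PresentedGroup.closure_range_of]; exact Subgroup.mem_top g
  induction hg using Subgroup.closure_induction with
  | mem x hx =>
    obtain ⟨a, rfl⟩ := hx
    exact ⟨[SuzG2.ix a], fun b hb => by rw [List.mem_singleton.1 hb]; exact SuzG2.setup.ix_lt a, by
      rw [el_singleton]; exact congrArg PresentedGroup.of (SuzG2.en_ix' a)⟩
  | one => exact ⟨[], by simp, el_nil⟩
  | mul x y _ _ hx hy =>
    obtain ⟨u, hu, rfl⟩ := hx
    obtain ⟨v, hv, rfl⟩ := hy
    exact ⟨u ++ v, fun a ha => (List.mem_append.1 ha).elim (hu a) (hv a), el_append u v⟩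
  | inv x _ hx =>
    obtain ⟨u, hu, rfl⟩ := hx
    exact ⟨u.reverse, fun a ha => hu a (List.mem_reverse.1 ha), el_reverse u⟩

/-- Every conjugate of the base element is coded. -/
theorem exists_code {y : P6} (h : IsConj y0 y) : ∃ k < 2080, RepPM k y := by
  obtain ⟨g, rfl⟩ := isConj_iff.1 h
  obtain ⟨w, hw, rfl⟩ := exists_word g
  exact ⟨sgW w Data.k0, sgW_lt hw (by decide), repPM_conj hw (by decide) (Or.inl rep_y0)⟩

theorem card_fix_y0 : ((Finset.univ : Finset (Fin 416)).filter fun i =>
    wimg 9 Data.gT Data.wY0 i.val = i.val).card = 56 := by decide +kernel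

/-- Members of the class fix 56 points. -/
theorem card_fixed {k : ℕ} (hk : k < 2080) {h : P6} (hh : Rep (cls k) h) :
    {i | act h i = i}.ncard = 56 := by
  obtain ⟨g, hg⟩ := exists_rep hk
  have h0 : {i | act y0 i = i}.ncard = 56 := by
    rw [← card_fix_y0, ← Set.ncard_coe_finset]
    congr 1
    ext i
    simp [y0, ← act_el_val (w := Data.wY0) (by decide), Fin.val_inj]
  have hc : {i | act (g * y0 * g⁻¹) i = i}.ncard = 56 := by
    rw [← h0, ← Set.ncard_image_of_injective {i | act y0 i = i} (act g).injective]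
    congr 1
    ext i
    simp only [Set.mem_setOf_eq, Set.mem_image, map_mul, map_inv, Equiv.Perm.mul_apply]
    constructor
    · intro e
      refine ⟨(act g).symm i, ?_, by simp⟩
      exact (Equiv.eq_symm_apply _).2 e
    · rintro ⟨j, hj, rfl⟩
      simp [hj]
  rcases hg with hg | hg
  · rw [hh.unique hg]; exact hc
  · rw [hh.unique hg, ← hc]
    congr 1
    ext i
    simp only [Set.mem_setOf_eq, map_inv]
    exact ⟨fun e => ((Equiv.eq_symm_apply _).1 e.symm), fun e => ((Equiv.eq_symm_apply _).2 e).symm⟩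

end CfsgLib.SuzRank
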