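import Cfsg.Agent.SuzRank.Local
import Mathlib.GroupTheory.Perm.Cycle.Type

/-!
# Sets of 96 points fixed by subgroups of order 184320
-/

set_option autoImplicit false
set_option maxRecDepth 100000

namespace CfsgLib.SuzRank

open Subgroup

/-- A subgroup leaves a set invariant. -/
def Inv (H : Subgroup P6) (X : Finset (Fin 416)) : Prop := ∀ g ∈ H, ∀ p ∈ X, act g p ∈ X

theorem Inv.conn {H : Subgroup P6} {X : Finset (Fin 416)} (hX : Inv H X) {p q : Fin 416} (hp : p ∈ X)
    (h : Conn H p q) : q ∈ X := by
  obtain ⟨g, hg, rfl⟩ := h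
  exact hX g hg p hp

theorem suT_ok : ∀ i < 12, (Data.wU.getD i []).all (fun a => decide (a < 6)) = true ∧
    wordTab 2080 12 Data.sgT (Data.wU.getD i []) (Data.suT.getD i 0) = true := by
  decide +kernel

theorem repPM_uGen {i k : ℕ} (hi : i < 12) (hk : k < 2080) {y : P6} (hy : RepPM k y) :
    RepPM (ent 12 (Data.suT.getD i 0) k) (uGen i * y * (uGen i)⁻¹) := by
  have := repPM_conj (w := Data.wU.getD i []) (by simpa using (suT_ok i hi).1) hk hy
  rwa [show sgW (Data.wU.getD i []) k = ent 12 (Data.suT.getD i 0) k from by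
    simpa [sgW] using allB_iff.1 (suT_ok i hi).2 k hk] at this

/-- The representatives under the Sylow 2-subgroup. -/
def rootsU : List ℕ := Data.kRep.map (fun e => e.1) ++ Data.cRep.map (fun e => e.1) ++ [Data.kM]

/-- A step towards them. -/
def stepU (v : ℕ) : ℕ :=
  if rootsU.elem v then v else ent 12 (Data.suT.getD (ent 4 Data.upU v) 0) v

/-- The representative of a member. -/
def rootU' (v : ℕ) : ℕ := iterB stepU Data.dU v

theorem upU_ok : (allB 2080 fun v => decide (ent 4 Data.upU v < 12) && decide (stepU v < 2080) &&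
    rootsU.elem (rootU' v) && rootU' (stepU v) == rootU' v) = true := by
  decide +kernel

theorem inD_root {H : Subgroup P6} (hU : U ≤ H) {k : ℕ} (hk : k < 2080) (hD : InD H k) :
    InD H (rootU' k) := by
  have h := fun v hv => by simpa using allB_iff.1 upU_ok v hv
  suffices ∀ d v, v < 2080 → InD H v → InD H (iterB stepU d v) from this _ k hk hD
  intro d
  induction d with
  | zero => exact fun _ _ h => h
  | succ d ih =>
    intro v hv hv'
    refine ih _ (h v hv).1.1.2 ?_
    by_cases hr : rootsU.elem v = true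
    · rwa [stepU, if_pos hr]
    · rw [stepU, if_neg hr]
      obtain ⟨y, hy, hr'⟩ := hv'
      have hu := hU (uGen_mem_U (h v hv).1.1.1)
      exact InD.of_repPM (mul_mem (mul_mem hu hy) (inv_mem hu)) (repPM_uGen (h v hv).1.1.1 hv (Or.inl hr'))

/-- The tables of the Sylow generators and one more element. -/
def tabs13 (t : ℕ) : List ℕ := Data.uT ++ [t]

theorem tabs13_spec {H : Subgroup P6} (hU : U ≤ H) {w : List ℕ} {t : ℕ} (ht : elTab w t = true)
    (hw : el w ∈ H) : ∀ a < 13, ∃ h ∈ H, IsTab 9 (act h) ((tabs13 t).getD a 0) := by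
  intro a ha
  by_cases h12 : a < 12
  · refine ⟨uGen a, hU (uGen_mem_U h12), ?_⟩
    rw [tabs13, List.getD_append _ _ _ _ (by simpa [Data.uT] using h12)]
    exact isTab_uGen a h12
  · obtain rfl : a = 12 := by omega
    exact ⟨el w, hw, isTab_act_el ht⟩

/-- A step towards the point of a representative. -/
def stepR (t up pnt v : ℕ) : ℕ :=
  if (rmask Data.C0).testBit v || v == pnt then v else ent 9 ((tabs13 t).getD (ent 4 up v) 0) v

/-- The check of a representative fixing only the first line. -/
def kOK (e : ℕ × List ℕ × ℕ × ℕ × ℕ × ℕ) : Bool :=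
  codeOK e.2.1 (cls e.1) && elTab e.2.1 e.2.2.2.2.2 && allB 416 fun v =>
    (rmask Data.C0).testBit v || (decide (ent 4 e.2.2.1 v < 13) &&
      decide (stepR e.2.2.2.2.2 e.2.2.1 e.2.2.2.2.1 v < 416) &&
      !(rmask Data.C0).testBit (stepR e.2.2.2.2.2 e.2.2.1 e.2.2.2.2.1 v) &&
      iterB (stepR e.2.2.2.2.2 e.2.2.1 e.2.2.2.2.1) e.2.2.2.1 v == e.2.2.2.2.1)

theorem kRep_ok : ∀ e ∈ Data.kRep, kOK e = true := by decide +kernel

theorem row_of_kRep {H : Subgroup P6} (hU : U ≤ H) {X : Finset (Fin 416)} (hX : Inv H X)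
    (hcard : X.card = 96) {e : ℕ × List ℕ × ℕ × ℕ × ℕ × ℕ} (he : e ∈ Data.kRep) (hD : InD H e.1) :
    X = row line0 := by
  obtain ⟨y, hy, hr⟩ := hD
  obtain ⟨k, w, up, d, pnt, t⟩ := e
  have h := kRep_ok _ he
  simp only [kOK, Bool.and_eq_true] at h
  obtain rfl := hr.unique (rep_of_code h.1.1)
  set R := rmask Data.C0 with hR
  have hv : ∀ v < 416, R.testBit v = false → ent 4 up v < 13 ∧ stepR t up pnt v < 416 ∧
      R.testBit (stepR t up pnt v) = false ∧ iterB (stepR t up pnt) d v = pnt := by
    intro v hv hb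
    have := allB_iff.1 h.2 v hv
    simp only [← hR, hb, Bool.false_or, Bool.and_eq_true, decide_eq_true_eq, Bool.not_eq_true',
      beq_iff_eq] at this
    exact ⟨this.1.1.1, this.1.1.2, this.1.2, this.2⟩
  have hrow : ∀ p : Fin 416, p ∈ row line0 ↔ R.testBit p.val = true := by
    intro p
    exact ⟨fun h => (Finset.mem_filter.1 h).2, fun h => Finset.mem_filter.2 ⟨Finset.mem_univ _, h⟩⟩
  have hconn : ∀ p : Fin 416, p ∉ row line0 → Conn H p (pt pnt) := by
    intro p hp
    rw [hrow, Bool.not_eq_true] at hp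
    have key := of_iterB (n := 416) (f := fun v => if R.testBit v then v else stepR t up pnt v)
      (P := fun v => R.testBit v = false → Conn H (pt v) (pt pnt))
      (fun v hv' => ?_)
    · have hiter : ∀ m v, v < 416 → R.testBit v = false →
          iterB (fun v => if R.testBit v then v else stepR t up pnt v) m v = iterB (stepR t up pnt) m v := by
        intro m
        induction m with
        | zero => exact fun _ _ _ => rfl
        | succ m ih =>
          intro v hv' hb
          show iterB _ m (if R.testBit v then v else stepR t up pnt v) = _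
          rw [hb]
          exact ih _ (hv v hv' hb).2.1 (hv v hv' hb).2.2.1
      have := key d p.val p.isLt (fun _ => by
        rw [hiter d _ p.isLt hp, (hv _ p.isLt hp).2.2.2]; exact Conn.refl _) hp
      rwa [pt_val] at this
    · by_cases hb : R.testBit v = true
      · rw [if_pos hb]; exact ⟨hv', id⟩
      rw [if_neg hb]
      rw [Bool.not_eq_true] at hb
      refine ⟨(hv v hv' hb).2.1, fun hp' _ => ?_⟩
      by_cases hvp : v = pnt
      · rw [hvp]; exact Conn.refl _
      · refine Conn.trans ?_ (hp' (hv v hv' hb).2.2.1)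
        obtain ⟨g, hg, htab⟩ := tabs13_spec hU h.1.2 hy _ (hv v hv' hb).1
        refine ⟨g, hg, Fin.ext ?_⟩
        rw [htab, show (pt v).val = v from Nat.mod_eq_of_lt hv',
          show (pt (stepR t up pnt v)).val = stepR t up pnt v from Nat.mod_eq_of_lt (hv v hv' hb).2.1]
        have hne : (v == pnt) = false := by simpa using hvp
        simp [stepR, ← hR, hb, hne]
  refine Finset.eq_of_subset_of_card_le (fun p hp => ?_) (by rw [card_row, hcard])
  by_contra hno
  have hpp := hX.conn hp (hconn p hno)
  have hsub : Finset.univ \ row line0 ⊆ X := fun q hq =>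
    hX.conn hpp (hconn q (Finset.mem_sdiff.1 hq).2).symm
  have := Finset.card_le_card hsub
  rw [Finset.card_sdiff_of_subset (Finset.subset_univ _), Finset.card_univ, Fintype.card_fin, card_row,
    hcard] at this
  omega

/-- The check of a representative generating an element of order 7 or 13. -/
def cOK (e : ℕ × List ℕ × List ℕ × ℕ × ℕ) : Bool :=
  codeOK e.2.1 (cls e.1) && elTab e.2.1 e.2.2.2.2 && e.2.2.1.all (fun a => decide (a < 13)) &&
    (e.2.2.2.1 == 7 || e.2.2.2.1 == 13) &&
    sameOn 416 9 (tabs13 e.2.2.2.2) (List.replicate e.2.2.2.1 e.2.2.1).flatten [] &&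
    !sameOn 416 9 (tabs13 e.2.2.2.2) e.2.2.1 []

theorem cRep_ok : ∀ e ∈ Data.cRep, cOK e = true := by decide +kernel

theorem false_of_cRep {H : Subgroup P6} (hH : Nat.card H = 184320) (hU : U ≤ H)
    {e : ℕ × List ℕ × List ℕ × ℕ × ℕ} (he : e ∈ Data.cRep) (hD : InD H e.1) : False := by
  obtain ⟨y, hy, hr⟩ := hD
  obtain ⟨k, w, wit, p, t⟩ := e
  have h := cRep_ok _ he
  simp only [cOK, Bool.and_eq_true, List.all_eq_true, decide_eq_true_eq, Bool.not_eq_true',
    Bool.or_eq_true, beq_iff_eq] at h
  obtain rfl := hr.unique (rep_of_code h.1.1.1.1.1)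
  let f : ℕ → P6 := fun a => if a < 12 then uGen a else el w
  have hf : ∀ a < 13, IsTab 9 ((act ∘ f) a) ((tabs13 t).getD a 0) := by
    intro a ha
    by_cases h12 : a < 12
    · simp only [Function.comp_apply, f, if_pos h12]
      rw [tabs13, List.getD_append _ _ _ _ (by simpa [Data.uT] using h12)]
      exact isTab_uGen a h12
    · obtain rfl : a = 12 := by omega
      exact isTab_act_el h.1.1.1.1.2
  set g := (wit.map f).prod with hgdef
  have hgH : g ∈ H := Subgroup.list_prod_mem _ fun z hz => by
    obtain ⟨a, -, rfl⟩ := List.mem_map.1 hz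
    by_cases ha : a < 12
    · simp only [f, if_pos ha]; exact hU (uGen_mem_U ha)
    · simp only [f, if_neg ha]; exact hy
  have hgp : g ^ p = 1 := by
    refine act_injective ?_
    have e13 := sameOn_sound hf (fun a ha => by
      simp only [List.mem_flatten, List.mem_replicate] at ha
      obtain ⟨l, ⟨-, rfl⟩, hl⟩ := ha
      exact h.1.1.1.2 a hl) (by simp) h.1.2
    rw [← List.map_map, ← map_list_prod, prod_map_flatten_replicate] at e13
    rw [map_one]
    exact e13
  have hg1 : g = 1 := by
    by_contra hne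
    haveI : Fact p.Prime := ⟨by rcases h.1.1.2 with hp | hp <;> rw [hp] <;> norm_num⟩
    have hd : orderOf g ∣ Nat.card H := Nat.card_zpowers g ▸ card_dvd_of_le (zpowers_le.2 hgH)
    rw [orderOf_eq_prime hgp hne, hH] at hd
    rcases h.1.1.2 with hp | hp <;> rw [hp] at hd <;> norm_num at hd
  refine Bool.eq_false_iff.1 h.2 (allB_iff.2 fun i hi => beq_iff_eq.2 ?_)
  rw [show i = (⟨i, hi⟩ : Fin 416).val from rfl, wimg_eq hf _ h.1.1.1.2, ← List.map_map, ← map_list_prod,
    ← hgdef, hg1, map_one]
  rfl

/-- The labels of the exceptional case. -/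
def labMf (v : ℕ) : ℕ := ent 4 Data.labM v

/-- Representatives of these labels. -/
def rootM : List ℕ := [4, 11, 13, 14, 18, 20, 21, 23, 29, 39, 0]

/-- An element keeps all labels. -/
def KeepLab (h : P6) : Prop := ∀ i : Fin 416, labMf (act h i).val = labMf i.val

theorem KeepLab.inv {h : P6} (hh : KeepLab h) : KeepLab h⁻¹ := fun i => by
  have := hh ((act h)⁻¹ i)
  rw [show act h ((act h)⁻¹ i) = i from (act h).apply_symm_apply i] at this
  rw [map_inv]
  exact this.symm

theorem labM_ok : elTab Data.wM Data.tM = true ∧ codeOK Data.wM (cls Data.kM) = true ∧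
    (allB 416 fun v => decide (labMf v < 11) && labMf (ent 9 Data.tM v) == labMf v) = true ∧
    (∀ i < 12, (Data.rhoM.getD i []).Nodup ∧ (Data.rhoM.getD i []).length = 11 ∧
      (allB 416 fun v => labMf (ent 9 (Data.uT.getD i 0) v) ==
        (Data.rhoM.getD i []).getD (labMf v) 11) = true) := by
  decide +kernel

theorem labMf_lt (i : Fin 416) : labMf i.val < 11 := by
  have := allB_iff.1 labM_ok.2.2.1 i.val i.isLt
  simp only [Bool.and_eq_true, decide_eq_true_eq] at this
  exact this.1

theorem keepLab_of_root {k : ℕ} (hk : k < 2080) (hroot : rootU' k = Data.kM) :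
    ∀ h, Rep (cls k) h → KeepLab h := by
  have h := fun v hv => by simpa using allB_iff.1 upU_ok v hv
  refine of_iterB (n := 2080) (f := stepU)
    (P := fun v => rootU' v = Data.kM → ∀ g, Rep (cls v) g → KeepLab g)
    (fun v hv => ⟨(h v hv).1.1.2, fun hp hv' g hg => ?_⟩) Data.dU k hk (fun hr g hg i => ?_) hroot
  · by_cases hr : rootsU.elem v = true
    · rw [stepU, if_pos hr] at hp; exact hp hv' g hg
    · have hi := (h v hv).1.1.1
      have hp' := hp ((h v hv).2.trans hv')
      rw [stepU, if_neg hr] at hp'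
      obtain ⟨hnd, hlen, hrho⟩ := labM_ok.2.2.2 _ hi
      have hz : KeepLab (uGen (ent 4 Data.upU v) * g * (uGen (ent 4 Data.upU v))⁻¹) := by
        rcases repPM_uGen hi hv (Or.inl hg) with hz | hz
        · exact hp' _ hz
        · have := (hp' _ hz).inv; rwa [inv_inv] at this
      intro i
      have hl : ∀ j : Fin 416, labMf (act (uGen (ent 4 Data.upU v)) j).val =
          (Data.rhoM.getD (ent 4 Data.upU v) []).getD (labMf j.val) 11 := fun j => by
        rw [show (act (uGen (ent 4 Data.upU v)) j).val = _ from isTab_uGen _ hi j]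
        exact beq_iff_eq.1 (allB_iff.1 hrho j.val j.isLt)
      have e := hz (act (uGen (ent 4 Data.upU v)) i)
      simp only [map_mul, map_inv, Equiv.Perm.mul_apply, Equiv.Perm.inv_def, Equiv.symm_apply_apply] at e
      rw [hl, hl, List.getD_eq_getElem _ _ (lt_of_lt_of_eq (labMf_lt _) hlen.symm),
        List.getD_eq_getElem _ _ (lt_of_lt_of_eq (labMf_lt _) hlen.symm), hnd.getElem_inj_iff] at e
      exact e
  · have hend : iterB stepU Data.dU k = Data.kM := hroot
    rw [hend] at hg
    rw [hg.unique (rep_of_code labM_ok.2.1), isTab_act_el labM_ok.1]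
    have := allB_iff.1 labM_ok.2.2.1 i.val i.isLt
    simp only [Bool.and_eq_true, beq_iff_eq] at this
    exact this.2

/-- The exceptional generators. -/
noncomputable def mGen (i : ℕ) : P6 :=
  ((Data.mPath.getD i []).map uGen).prod * el Data.wM * (((Data.mPath.getD i []).map uGen).prod)⁻¹

theorem mT_ok : ∀ i < 3, (Data.mPath.getD i []).all (fun a => decide (a < 12)) = true ∧
    sameOn 416 9 (Data.uT ++ [Data.tM, Data.mT.getD i 0]) (Data.mPath.getD i [] ++ [12])
      ([13] ++ Data.mPath.getD i []) = true := by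
  decide +kernel

theorem isTab_mGen {i : ℕ} (hi : i < 3) : IsTab 9 (act (mGen i)) (Data.mT.getD i 0) := by
  obtain ⟨h1, h2⟩ := mT_ok i hi
  simp only [List.all_eq_true, decide_eq_true_eq] at h1
  intro j
  set P := ((Data.mPath.getD i []).map uGen).prod with hP
  obtain ⟨q, rfl⟩ := (act P).surjective j
  have hk : ∀ v : Fin 416, ∀ l : List ℕ, (∀ a ∈ l, a < 12) →
      wimg 9 (Data.uT ++ [Data.tM, Data.mT.getD i 0]) l v.val = (act (l.map uGen).prod v).val := by
    intro v l hl
    induction l with
    | nil => simp [wimg]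
    | cons a l ih =>
      have ha := hl a List.mem_cons_self
      rw [List.map_cons, List.prod_cons, map_mul, Equiv.Perm.mul_apply,
        show (act (uGen a) _).val = _ from isTab_uGen a ha _,
        ← ih fun b hb => hl b (List.mem_cons_of_mem a hb)]
      show ent 9 ((Data.uT ++ _).getD a 0) _ = _
      rw [List.getD_append _ _ _ _ (by simpa [Data.uT] using ha)]
      rfl
  have e := beq_iff_eq.1 (allB_iff.1 h2 q.val q.isLt)
  simp only [wimg, List.foldr_append, List.foldr_cons, List.foldr_nil] at e
  have e1 : ent 9 Data.tM q.val = (act (el Data.wM) q).val := (isTab_act_el labM_ok.1 q).symm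
  rw [show ent 9 ((Data.uT ++ [Data.tM, Data.mT.getD i 0]).getD 12 0) q.val = ent 9 Data.tM q.val from rfl,
    e1] at e
  rw [show List.foldr (fun a j => ent 9 ((Data.uT ++ [Data.tM, Data.mT.getD i 0]).getD a 0) j)
    (act (el Data.wM) q).val (Data.mPath.getD i []) = _ from hk _ _ h1,
    show List.foldr (fun a j => ent 9 ((Data.uT ++ [Data.tM, Data.mT.getD i 0]).getD a 0) j)
    q.val (Data.mPath.getD i []) = _ from hk _ _ h1] at e
  rw [show ent 9 (Data.mT.getD i 0) (act P q).val =
    ent 9 ((Data.uT ++ [Data.tM, Data.mT.getD i 0]).getD 13 0) (act P q).val from rfl, ← e, mGen, ← hP]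
  simp [map_mul, map_inv]

theorem treeM : treeOK Data.mT 4 Data.upM Data.dM rootM labMf = true := by decide +kernel

theorem classes_ok : (allB 11 fun l => ((List.range 416).filter fun v => labMf v == l).length ==
    (if l = 10 then 256 else 16)) = true := by decide +kernel

/-- A set of points of one label. -/
def cl (l : ℕ) : Finset (Fin 416) := Finset.univ.filter fun p => labMf p.val = l

theorem card_cl {l : ℕ} (hl : l < 11) : (cl l).card = if l = 10 then 256 else 16 := by
  rw [← beq_iff_eq.1 (allB_iff.1 classes_ok l hl),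
    ← List.toFinset_card_of_nodup ((List.nodup_range).filter _),
    ← Finset.card_map ⟨Fin.val, Fin.val_injective⟩]
  congr 1
  ext v
  simp only [Finset.mem_map, List.mem_toFinset, List.mem_filter, List.mem_range, beq_iff_eq, cl,
    Finset.mem_filter, Finset.mem_univ, true_and, Function.Embedding.coeFn_mk]
  exact ⟨fun ⟨p, hp, e⟩ => e ▸ ⟨p.isLt, hp⟩, fun ⟨hv, hp⟩ => ⟨⟨v, hv⟩, hp, rfl⟩⟩

theorem qadj_sub : (allB 416 fun a => decide (10 ≤ labMf a) || allB 100 fun k =>
    decide (10 ≤ labMf (nth a k)) || labMf (nth a k) == labMf a ||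
      (Data.qAdj.getD (labMf a) []).elem (labMf (nth a k))) = true := by
  decide +kernel

theorem qadj_wit : (allB 10 fun l => (Data.qAdj.getD l []).all fun m =>
    anyB 416 fun a => labMf a == l && anyB 100 fun k => labMf (nth a k) == m) = true := by
  decide +kernel

theorem qadj_facts : ∀ l < 10, (Data.qAdj.getD l []).Nodup ∧ (Data.qAdj.getD l []).length = 3 ∧
    ∀ m ∈ Data.qAdj.getD l [], m < 10 ∧ m ≠ l := by decide +kernel

/-- The labels reached from a list by adjacency. -/
def reachQ : ℕ → List ℕ → List ℕ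
  | 0, S => S
  | k + 1, S => reachQ k ((List.range 10).filter fun m => S.elem m || S.any fun l => (Data.qAdj.getD l []).elem m)

theorem reachQ_ok : (allB 10 fun l => allB 10 fun m => (reachQ 4 [l]).elem m) = true := by decide +kernel

theorem false_of_exceptional {H : Subgroup P6} (hH : Nat.card H = 184320) (hU : U ≤ H)
    {X : Finset (Fin 416)} (hX : Inv H X) (hcard : X.card = 96) (hM : InD H Data.kM)
    (hall : ∀ k < 2080, InD H k → rootU' k = Data.kM) : False := by
  classical
  -- the elements whose conjugates all keep the labels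
  let N : Subgroup P6 :=
    { carrier := {h | h ∈ H ∧ ∀ g ∈ H, KeepLab (g * h * g⁻¹)}
      one_mem' := ⟨one_mem _, fun g _ i => by simp⟩
      mul_mem' := fun {a b} ha hb => ⟨mul_mem ha.1 hb.1, fun g hg i => by
        rw [show g * (a * b) * g⁻¹ = (g * a * g⁻¹) * (g * b * g⁻¹) by group, map_mul,
          Equiv.Perm.mul_apply, ha.2 g hg, hb.2 g hg]⟩
      inv_mem' := fun {a} ha => ⟨inv_mem ha.1, fun g hg => by
        rw [show g * a⁻¹ * g⁻¹ = (g * a * g⁻¹)⁻¹ by group]
        exact (ha.2 g hg).inv⟩ }
  obtain ⟨yM, hyM, hrM⟩ := hM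
  have hwM := hrM.unique (rep_of_code labM_ok.2.1)
  have hgen : ∀ a < 3, mGen a ∈ N := by
    intro a ha
    obtain ⟨h1, -⟩ := mT_ok a ha
    simp only [List.all_eq_true, decide_eq_true_eq] at h1
    set P := ((Data.mPath.getD a []).map uGen).prod with hP
    have hPH : P ∈ H := Subgroup.list_prod_mem _ fun z hz => by
      obtain ⟨b, hb, rfl⟩ := List.mem_map.1 hz
      exact hU (uGen_mem_U (h1 b hb))
    have hmem : mGen a ∈ H := mul_mem (mul_mem hPH (hwM ▸ hyM)) (inv_mem hPH)
    refine ⟨hmem, fun g hg => ?_⟩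
    obtain ⟨w, hw, hw'⟩ := exists_word (g * P)
    have hz := repPM_conj hw (show Data.kM < 2080 by decide) (Or.inl (rep_of_code labM_ok.2.1))
    rw [hw'] at hz
    have e : g * mGen a * g⁻¹ = g * P * el Data.wM * (g * P)⁻¹ := by rw [mGen, ← hP]; group
    have hzH : g * P * el Data.wM * (g * P)⁻¹ ∈ H := e ▸ mul_mem (mul_mem hg hmem) (inv_mem hg)
    have hroot := hall _ (sgW_lt hw (by decide)) (InD.of_repPM hzH hz)
    rw [e]
    rcases hz with hz | hz
    · exact keepLab_of_root (sgW_lt hw (by decide)) hroot _ hz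
    · have := (keepLab_of_root (sgW_lt hw (by decide)) hroot _ hz).inv
      rwa [inv_inv] at this
  have hc : Coarse N labMf := coarse_of_tree (fun a ha => by
    have ha' : a < 3 := by simpa [Data.mT] using ha
    exact ⟨mGen a, hgen a ha', isTab_mGen ha'⟩) treeM
  have hblock : ∀ g ∈ H, ∀ i j : Fin 416, labMf i.val = labMf j.val →
      labMf (act g i).val = labMf (act g j).val := by
    intro g hg i j e
    obtain ⟨h, hh, rfl⟩ := hc i j e
    have := hh.2 g hg (act g i)
    rw [map_mul, map_mul, map_inv, Equiv.Perm.mul_apply, Equiv.Perm.mul_apply, Equiv.Perm.inv_def,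
      Equiv.symm_apply_apply] at this
    exact this.symm
  -- an element of order five
  haveI : Fact (Nat.Prime 5) := ⟨by norm_num⟩
  obtain ⟨z', hz'⟩ := exists_prime_orderOf_dvd_card' (G := H) 5 (by rw [hH]; norm_num)
  set z : P6 := z'.1 with hzdef
  have hz5 : z ^ 5 = 1 := by
    rw [hzdef, ← Subgroup.coe_pow, ← hz', pow_orderOf_eq_one]
    rfl
  have hz1 : z ≠ 1 := fun e => by
    have : z' = 1 := Subtype.ext e
    rw [this, orderOf_one] at hz'
    norm_num at hz'
  have hroot : ∀ l : Fin 11, labMf (pt (rootM.getD l.val 0)).val = l.val := by decide +kernel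
  let f : Fin 11 → Fin 11 := fun l => ⟨labMf (act z (pt (rootM.getD l.val 0))).val, labMf_lt _⟩
  have hf : ∀ i : Fin 416, labMf (act z i).val = (f ⟨labMf i.val, labMf_lt i⟩).val := fun i =>
    hblock z z'.2 _ _ (hroot ⟨labMf i.val, labMf_lt i⟩).symm
  have hf5 : ∀ m (i : Fin 416),
      (f^[m] ⟨labMf i.val, labMf_lt i⟩).val = labMf (act (z ^ m) i).val := by
    intro m
    induction m with
    | zero => intro i; simp
    | succ m ih =>
      intro i
      rw [Function.iterate_succ_apply', pow_succ', map_mul, Equiv.Perm.mul_apply, hf]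
      exact congrArg (fun l => (f l).val) (Fin.ext (ih i))
  have hf5' : ∀ l, f^[5] l = l := fun l => Fin.ext (by
    have := hf5 5 (pt (rootM.getD l.val 0))
    simp only [hroot, hz5, map_one, Equiv.Perm.one_apply] at this
    exact this)
  have hfinj : Function.Injective f := fun a b e => by
    have h := congrArg (f^[4]) e
    rw [← Function.iterate_succ_apply, ← Function.iterate_succ_apply] at h
    simpa [hf5'] using h
  let π : Equiv.Perm (Fin 11) := Equiv.ofBijective f (Finite.injective_iff_bijective.1 hfinj)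
  have hπ5 : π ^ 5 = 1 := Equiv.ext fun l => by
    rw [Equiv.Perm.coe_pow]
    exact hf5' l
  -- the big class is fixed
  have hmap : ∀ l : Fin 11, (cl l.val).image (act z) ⊆ cl (f l).val := by
    intro l q hq
    obtain ⟨p, hp, rfl⟩ := Finset.mem_image.1 hq
    simp only [cl, Finset.mem_filter, Finset.mem_univ, true_and] at hp ⊢
    rw [hf]
    exact congrArg (fun l => (f l).val) (Fin.ext hp)
  have h10 : f 10 = 10 := by
    have := Finset.card_le_card (hmap 10)
    rw [Finset.card_image_of_injective _ (act z).injective, card_cl (by decide),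
      card_cl (f 10).isLt] at this
    by_contra hne
    have hne' : (f 10).val ≠ 10 := fun e => hne (Fin.ext e)
    rw [if_neg hne'] at this
    norm_num at this
  have hsmall : ∀ l : Fin 11, l.val < 10 → (f l).val < 10 := fun l hl => by
    have h1 := (f l).isLt
    rcases Nat.lt_or_ge (f l).val 10 with h | h
    · exact h
    · have : f l = f 10 := h10.symm ▸ Fin.ext (show (f l).val = 10 by omega)
      have := congrArg Fin.val (hfinj this)
      simp at this
      omega
  -- adjacency of small classes is preserved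
  have hadj : ∀ l m : Fin 11, l.val < 10 → m.val ∈ Data.qAdj.getD l.val [] →
      (f m).val ∈ Data.qAdj.getD (f l).val [] := by
    intro l m hl hm
    obtain ⟨hm10, hml⟩ := (qadj_facts l.val hl).2.2 m.val hm
    have h := List.all_eq_true.1 (allB_iff.1 qadj_wit l.val hl) m.val hm
    obtain ⟨a, ha, hw⟩ := anyB_iff.1 h
    rw [Bool.and_eq_true, beq_iff_eq, anyB_iff] at hw
    obtain ⟨hal, k, hk, hkm⟩ := hw
    rw [beq_iff_eq] at hkm
    let A : Fin 416 := ⟨a, ha⟩
    let B : Fin 416 := ⟨nth a k, nth_lt A hk⟩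
    obtain ⟨k', hk', hnb⟩ := (nb_act z).2 (⟨k, hk, rfl⟩ : Nb A B)
    have hA : labMf (act z A).val = (f l).val := by
      rw [hf]; exact congrArg (fun l => (f l).val) (Fin.ext hal)
    have hB : labMf (act z B).val = (f m).val := by
      rw [hf]; exact congrArg (fun l => (f l).val) (Fin.ext hkm)
    have hq := allB_iff.1 qadj_sub (act z A).val (act z A).isLt
    rw [hA, decide_eq_false (by have := hsmall l hl; omega), Bool.false_or] at hq
    have hq' := allB_iff.1 hq k' hk'
    rw [hnb, hB, decide_eq_false (by have := hsmall m hm10; omega), Bool.false_or, Bool.or_eq_true,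
      beq_iff_eq] at hq'
    rcases hq' with e | e
    · exact absurd (congrArg Fin.val (hfinj (Fin.ext e))) hml
    · simpa using e
  -- the labels of the set
  let S : Finset (Fin 11) := Finset.univ.filter fun l => pt (rootM.getD l.val 0) ∈ X
  have hXS : ∀ p : Fin 416, p ∈ X ↔ (⟨labMf p.val, labMf_lt p⟩ : Fin 11) ∈ S := by
    intro p
    obtain ⟨g, hg, e⟩ := hc p (pt (rootM.getD (labMf p.val) 0)) (hroot ⟨labMf p.val, labMf_lt p⟩).symm
    simp only [S, Finset.mem_filter, Finset.mem_univ, true_and]
    exact ⟨fun h => hX.conn h ⟨g, hg.1, e⟩, fun h => hX.conn h (Conn.symm ⟨g, hg.1, e⟩)⟩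
  have h10S : (10 : Fin 11) ∉ S := by
    intro h
    have hsub : cl 10 ⊆ X := fun p hp => (hXS p).2 (by
      simp only [cl, Finset.mem_filter, Finset.mem_univ, true_and] at hp
      rwa [show (⟨labMf p.val, labMf_lt p⟩ : Fin 11) = 10 from Fin.ext hp])
    have := Finset.card_le_card hsub
    rw [card_cl (by decide), hcard, if_pos rfl] at this
    norm_num at this
  have hS : S.card = 6 := by
    have e : X = S.biUnion fun l => cl l.val := by
      ext p
      rw [hXS, Finset.mem_biUnion]
      constructor
      · exact fun h => ⟨_, h, by simp [cl]⟩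
      · rintro ⟨l, hl, hp⟩
        simp only [cl, Finset.mem_filter, Finset.mem_univ, true_and] at hp
        rwa [show (⟨labMf p.val, labMf_lt p⟩ : Fin 11) = l from Fin.ext hp]
    have hd : (S : Set (Fin 11)).PairwiseDisjoint fun l => cl l.val := by
      intro a _ b _ hab
      rw [Function.onFun, Finset.disjoint_left]
      intro p ha hb
      simp only [cl, Finset.mem_filter, Finset.mem_univ, true_and] at ha hb
      exact hab (Fin.ext (ha.symm.trans hb))
    have := congrArg Finset.card e
    rw [hcard, Finset.card_biUnion hd, Finset.sum_congr rfl fun l hl => by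
      rw [card_cl l.isLt, if_neg fun e => h10S (by rwa [show (10 : Fin 11) = l from Fin.ext e.symm])],
      Finset.sum_const, smul_eq_mul] at this
    omega
  have hSf : ∀ l, l ∈ S ↔ π l ∈ S := by
    have key : ∀ g ∈ H, ∀ p, p ∈ X ↔ act g p ∈ X := fun g hg p =>
      ⟨hX g hg p, fun h => by simpa [map_inv] using hX g⁻¹ (inv_mem hg) _ h⟩
    intro l
    have h1 := hXS (pt (rootM.getD l.val 0))
    have h2 := hXS (act z (pt (rootM.getD l.val 0)))
    rw [show (⟨labMf (pt (rootM.getD l.val 0)).val, labMf_lt _⟩ : Fin 11) = l from Fin.ext (hroot l)] at h1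
    exact h1.symm.trans ((key z z'.2 _).trans h2)
  -- a fixed label
  obtain ⟨⟨l0, hl0S⟩, hl0⟩ := Equiv.Perm.exists_fixed_point_of_prime (p := 5) (n := 1)
    (α := {l // l ∈ S}) (σ := π.subtypePerm fun l => (hSf l).symm) (by rw [Fintype.card_coe, hS]; norm_num)
    (by
      rw [pow_one, Equiv.Perm.subtypePerm_pow]
      ext l
      simp [hπ5])
  have hl0' : f l0 = l0 := congrArg Subtype.val hl0
  have hl0lt : l0.val < 10 := by
    have h1 := l0.isLt
    have : l0 ≠ 10 := fun e => h10S (e ▸ hl0S)
    have h2 : l0.val ≠ 10 := fun e => this (Fin.ext e)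
    omega
  -- fixed labels spread
  have hspread : ∀ l : Fin 11, l.val < 10 → f l = l → ∀ m : Fin 11, m.val ∈ Data.qAdj.getD l.val [] →
      f m = m := by
    intro l hl hfl m hm
    have hbwd : ∀ x : Fin 11, x.val ∈ Data.qAdj.getD l.val [] ↔ (π x).val ∈ Data.qAdj.getD l.val [] := by
      intro x
      refine ⟨fun h => by have := hadj l x hl h; rwa [hfl] at this, fun h => ?_⟩
      have h4 : ∀ m (y : Fin 11), y.val ∈ Data.qAdj.getD l.val [] →
          (f^[m] y).val ∈ Data.qAdj.getD l.val [] := by
        intro m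
        induction m with
        | zero => exact fun _ h => h
        | succ m ih =>
          intro y hy
          rw [Function.iterate_succ_apply']
          simpa [hfl] using hadj l _ hl (ih y hy)
      have := h4 4 _ h
      rwa [show f^[4] (π x) = f^[5] x from (Function.iterate_succ_apply f 4 x).symm, hf5'] at this
    let σ : Equiv.Perm {x : Fin 11 // x.val ∈ Data.qAdj.getD l.val []} :=
      π.subtypePerm fun x => (hbwd x).symm
    have hσ : orderOf σ ∣ 5 := orderOf_dvd_of_pow_eq_one (by
      rw [Equiv.Perm.subtypePerm_pow]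
      ext x
      simp [hπ5])
    have hσ' := orderOf_dvd_natCard σ
    rw [Nat.card_eq_fintype_card, Fintype.card_perm] at hσ'
    have hcard3 : Fintype.card {x : Fin 11 // x.val ∈ Data.qAdj.getD l.val []} ≤ 3 := by
      rw [Fintype.card_subtype]
      refine le_trans ?_ (le_of_eq (qadj_facts l.val hl).2.1)
      rw [← List.toFinset_card_of_nodup (qadj_facts l.val hl).1, ← Finset.card_map ⟨Fin.val, Fin.val_injective⟩]
      refine Finset.card_le_card fun v hv => ?_
      obtain ⟨x, hx, rfl⟩ := Finset.mem_map.1 hv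
      exact List.mem_toFinset.2 (Finset.mem_filter.1 hx).2
    have hσ1 : σ = 1 := orderOf_eq_one_iff.1 (Nat.eq_one_of_dvd_coprimes (by
      generalize Fintype.card {x : Fin 11 // x.val ∈ Data.qAdj.getD l.val []} = c at hcard3
      interval_cases c <;> decide) hσ hσ')
    exact congrArg Subtype.val (Equiv.ext_iff.1 hσ1 ⟨m, hm⟩)
  have hreach : ∀ k (L : List ℕ), (∀ x ∈ L, ∃ h : x < 10, f ⟨x, by omega⟩ = ⟨x, by omega⟩) →
      ∀ x ∈ reachQ k L, ∃ h : x < 10, f ⟨x, by omega⟩ = ⟨x, by omega⟩ := by
    intro k
    induction k with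
    | zero => exact fun L h => h
    | succ k ih =>
      intro L h x hx
      refine ih _ (fun y hy => ?_) x hx
      simp only [List.mem_filter, List.mem_range, Bool.or_eq_true, List.any_eq_true,
        List.elem_eq_mem, decide_eq_true_eq] at hy
      obtain ⟨hy10, hyL | ⟨l, hl, hyl⟩⟩ := hy
      · exact h y hyL
      · obtain ⟨hl10, hfl⟩ := h l hl
        exact ⟨hy10, hspread ⟨l, by omega⟩ hl10 hfl ⟨y, by omega⟩ hyl⟩
  have hallfix : ∀ l : Fin 11, f l = l := by
    intro l
    by_cases hl : l.val < 10
    · have hmem : l.val ∈ reachQ 4 [l0.val] := by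
        simpa using allB_iff.1 (allB_iff.1 reachQ_ok l0.val hl0lt) l.val hl
      obtain ⟨_, e⟩ := hreach 4 [l0.val] (fun x hx => by
        obtain rfl := List.mem_singleton.1 hx
        exact ⟨hl0lt, hl0'⟩) l.val hmem
      exact e
    · have := l.isLt
      rwa [show l = 10 from Fin.ext (show l.val = 10 by omega)]
  -- a fixed point in each class
  have hpt : ∀ l : Fin 11, ∃ p, labMf p.val = l.val ∧ act z p = p := by
    intro l
    have hiff : ∀ p : Fin 416, labMf (act z p).val = l.val ↔ labMf p.val = l.val := fun p => by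
      rw [hf, hallfix]
    obtain ⟨⟨p, hp⟩, hfix⟩ := Equiv.Perm.exists_fixed_point_of_prime (p := 5) (n := 1)
      (α := {p : Fin 416 // labMf p.val = l.val}) (σ := (act z).subtypePerm hiff)
      (by
        rw [Fintype.card_subtype]
        show ¬ 5 ∣ (cl l.val).card
        rw [card_cl l.isLt]
        split <;> norm_num)
      (by
        rw [pow_one, Equiv.Perm.subtypePerm_pow]
        ext p
        simp [← map_pow, hz5])
    exact ⟨p, hp, congrArg Subtype.val hfix⟩
  choose p hp hpz using hpt
  have h11 : 11 ≤ {i | act z i = i}.ncard := by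
    rw [show (11 : ℕ) = (Set.range p).ncard by
      rw [Set.ncard_range_of_injective fun a b e => Fin.ext ((hp a).symm.trans ((congrArg (fun q : Fin 416 => labMf q.val) e).trans (hp b))), Nat.card_fin]]
    exact Set.ncard_le_ncard (by rintro _ ⟨l, rfl⟩; exact hpz l) (Set.toFinite _)
  have := fix_order_five hz5 hz1
  omega

theorem row_of_U {H : Subgroup P6} (hH : Nat.card H = 184320) (hU : U ≤ H) {X : Finset (Fin 416)}
    (hX : Inv H X) (hcard : X.card = 96) : X = row line0 := by
  obtain ⟨g, hg⟩ := exists_conj_y0 (H := H) (by rw [hH]; norm_num)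
  obtain ⟨k, hk, hr⟩ := exists_code (isConj_iff.2 ⟨g, rfl⟩ : IsConj y0 (g * y0 * g⁻¹))
  have hD : InD H k := InD.of_repPM hg hr
  by_cases hall : ∀ k < 2080, InD H k → rootU' k = Data.kM
  · exact absurd (false_of_exceptional hH hU hX hcard (hall k hk hD ▸ inD_root hU hk hD) hall) not_false
  push Not at hall
  obtain ⟨k1, hk1, hD1, hne⟩ := hall
  have hroot := inD_root hU hk1 hD1
  have hmem := allB_iff.1 upU_ok k1 hk1
  simp only [Bool.and_eq_true] at hmem
  have hmem := hmem.1.2
  simp only [rootsU, List.elem_eq_mem, decide_eq_true_eq, List.mem_append, List.mem_map,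
    List.mem_singleton] at hmem
  rcases hmem with (⟨e, he, e1⟩ | ⟨e, he, e1⟩) | e1
  · exact row_of_kRep hU hX hcard he (e1 ▸ hroot)
  · exact (false_of_cRep hH hU he (e1 ▸ hroot)).elim
  · exact absurd e1 hne

/-- An invariant set of 96 points of a subgroup of order 184320 is a line. -/
theorem exists_row {H : Subgroup P6} (hH : Nat.card H = 184320) {X : Finset (Fin 416)}
    (hX : Inv H X) (hcard : X.card = 96) : ∃ C, X = row C ∧ H = LSt C := by
  haveI : Fact (Nat.Prime 2) := ⟨Nat.prime_two⟩
  obtain ⟨s, hs⟩ := exists_conj_mem (H := H) (n := 12) isPGroup_U (by rw [hH]; norm_num)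
    (by rw [card_P6]; norm_num)
  let K : Subgroup P6 := H.map (MulAut.conj s⁻¹).toMonoidHom
  have hK : Nat.card K = 184320 := (card_map_of_injective (MulAut.conj s⁻¹).injective).trans hH
  have hUK : U ≤ K := fun u hu => ⟨_, hs u hu, by simp [mul_assoc]⟩
  have hY : Inv K (X.image (act s⁻¹)) := by
    rintro _ ⟨g, hg, rfl⟩ q hq
    obtain ⟨p, hp, rfl⟩ := Finset.mem_image.1 hq
    refine Finset.mem_image.2 ⟨act g p, hX g hg p hp, ?_⟩
    simp [map_mul, map_inv]
  have hrow := row_of_U hK hUK hY (by rw [Finset.card_image_of_injective _ (act _).injective, hcard])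
  have hX' : X = row (lact s line0) := by
    rw [row_act, ← hrow, Finset.image_image]
    convert (Finset.image_id (s := X)).symm using 2
    funext p
    simp [map_inv]
  refine ⟨lact s line0, hX', eq_of_le_of_card_ge (fun g hg => ?_) (by rw [hH, card_LSt])⟩
  rw [mem_LSt_row, ← hX']
  exact fun p hp => hX g hg p hp

end CfsgLib.SuzRank
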