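import Cfsg.Agent.SuzRank.PointStab

/-!
# The 1365 lines of `G₂(4)` as sets of 96 points
-/

set_option autoImplicit false
set_option maxRecDepth 100000

namespace CfsgLib.SuzRank

open CfsgLib.CosetEnum
open Equiv (Perm)

theorem lT_ok : ∀ i < 6, invTabOK 1365 11 (Data.lT.getD i 0) = true := by decide +kernel

/-- The permutation of a letter on the lines. -/
def pl (i : ℕ) : Perm (Fin 1365) :=
  if h : i < 6 then permOfTab (lT_ok i h) else 1

theorem isTab_pl : ∀ a < 6, IsTab 11 (pl a) (Data.lT.getD a 0) := by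
  intro a ha
  rw [pl, dif_pos ha]
  exact isTab_permOfTab _

theorem pl_sq : ∀ i, pl i * pl i = 1 := by
  intro i
  refine Equiv.ext fun j => ?_
  unfold pl
  split
  · next h => exact Fin.ext (invTabOK_spec (lT_ok i h) j.isLt).2
  · rfl

theorem words_fix_l : SuzG2.setup.words.all (fun w => w.all (fun a => Nat.blt a 6) &&
    sameOn 1365 11 Data.lT w []) = true := by decide +kernel

/-- The action on the lines. -/
noncomputable def lact : P6 →* Perm (Fin 1365) :=
  PresentedGroup.toGroup (rels_of_words (fun a => pl (SuzG2.ix a)) (fun _ => pl_sq _) (fun w hw => by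
    have h := List.all_eq_true.1 words_fix_l w hw
    simp only [Bool.and_eq_true, List.all_eq_true, Nat.blt_eq] at h
    refine Eq.trans ?_ ((sameOn_sound isTab_pl h.1 (fun _ ha => absurd ha List.not_mem_nil) h.2).trans
      (by simp))
    refine congrArg List.prod (List.map_congr_left fun a ha => ?_)
    show pl (SuzG2.ix (SuzG2.en a)) = _
    rw [show SuzG2.ix (SuzG2.en a) = a from SuzG2.setup.ix_en a (h.1 a ha)]))

theorem lact_g {a : ℕ} (ha : a < 6) : lact (SuzG2.setup.g a) = pl a := by
  show lact (PresentedGroup.of (SuzG2.en a)) = _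
  exact (PresentedGroup.toGroup.of _).trans (congrArg pl (SuzG2.setup.ix_en a ha))

theorem lact_el : ∀ {w : List ℕ}, (∀ a ∈ w, a < 6) → lact (el w) = (w.map pl).prod
  | [], _ => map_one _
  | a :: w, h => by
    rw [el, prodw_cons, map_mul, lact_g (h a List.mem_cons_self), List.map_cons, List.prod_cons,
      ← el, lact_el fun b hb => h b (List.mem_cons_of_mem a hb)]

theorem lact_el_val {w : List ℕ} (hw : ∀ a ∈ w, a < 6) (i : Fin 1365) :
    (lact (el w) i).val = wimg 11 Data.lT w i.val := by
  rw [lact_el hw, wimg_eq isTab_pl w hw]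

/-- A point of a line. -/
def lpt (C k : ℕ) : ℕ := ent 9 (blk 864 Data.rowB C) k

/-- The lowest entries as a bit set. -/
noncomputable def orBits (n : ℕ) : ℕ → ℕ :=
  Nat.rec (fun _ => 0)
    (fun _ ih b => force (Nat.land b 511) fun v => force (Nat.shiftRight b 9) fun b' =>
      Nat.lor (Nat.pow 2 v) (ih b')) n

/-- The check that a table sends the lowest entries into a bit set. -/
noncomputable def testAll (t m n : ℕ) : ℕ → Bool :=
  Nat.rec (fun _ => true)
    (fun _ ih b => Nat.beq (Nat.land (Nat.shiftRight m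
      (Nat.land (Nat.shiftRight t (Nat.mul 9 (Nat.land b 511))) 511)) 1) 1 &&
        force (Nat.shiftRight b 9) ih) n

theorem orBits_succ (n b : ℕ) : orBits (n + 1) b = 2 ^ (b % 512) ||| orBits n (b >>> 9) := by
  show force (Nat.land b 511) (fun v => force (Nat.shiftRight b 9) fun b' =>
    Nat.lor (Nat.pow 2 v) (orBits n b')) = _
  rw [force_eq, force_eq, show Nat.land b 511 = b &&& (2 ^ 9 - 1) from rfl,
    Nat.and_two_pow_sub_one_eq_mod]
  rfl

theorem ent_shiftRight (b k : ℕ) : ent 9 (b >>> 9) k = ent 9 b (k + 1) := by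
  rw [ent, ent, ← Nat.shiftRight_add]
  ring_nf

theorem testBit_orBits (p : ℕ) : ∀ n b, (orBits n b).testBit p = true ↔ ∃ k < n, ent 9 b k = p
  | 0, b => by simp [orBits]
  | n + 1, b => by
    have hz : ent 9 b 0 = b % 512 := by simp [ent]
    rw [orBits_succ, Nat.testBit_lor, Bool.or_eq_true, Nat.testBit_two_pow, decide_eq_true_eq,
      testBit_orBits p n]
    constructor
    · rintro (h | ⟨k, hk, h⟩)
      · exact ⟨0, by omega, hz.trans h⟩
      · exact ⟨k + 1, by omega, by rwa [← ent_shiftRight]⟩
    · rintro ⟨k, hk, h⟩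
      rcases k with _ | k
      · exact Or.inl (hz.symm.trans h)
      · exact Or.inr ⟨k, by omega, by rwa [ent_shiftRight]⟩

theorem testAll_sound (t m : ℕ) : ∀ n b, testAll t m n b = true →
    ∀ k < n, m.testBit (ent 9 t (ent 9 b k)) = true
  | 0, _, _, k, hk => absurd hk (by omega)
  | n + 1, b, h, k, hk => by
    have h' : (Nat.beq (Nat.land (Nat.shiftRight m
        (Nat.land (Nat.shiftRight t (Nat.mul 9 (Nat.land b 511))) 511)) 1) 1 &&
          force (Nat.shiftRight b 9) (testAll t m n)) = true := h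
    rw [force_eq, Bool.and_eq_true] at h'
    rcases k with _ | k
    · have h0 : bit m (Nat.land (Nat.shiftRight t (Nat.mul 9 (Nat.land b 511))) 511) = true := h'.1
      rw [bit_eq] at h0
      rw [← h0, show Nat.land b 511 = b &&& (2 ^ 9 - 1) from rfl, Nat.and_two_pow_sub_one_eq_mod,
        show ∀ x, Nat.land x 511 = x &&& (2 ^ 9 - 1) from fun _ => rfl, Nat.and_two_pow_sub_one_eq_mod]
      simp [ent]
    · rw [← ent_shiftRight]
      exact testAll_sound t m n _ h'.2 k (by omega)

/-- The points of a line as bits. -/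
def rmask (C : ℕ) : ℕ := blk 416 Data.maskB C

theorem rmask_ok : (allB 1365 fun C => Nat.beq (rmask C) (force (blk 864 Data.rowB C) (orBits 96))) =
    true := by
  decide +kernel

theorem testBit_rmask {C : ℕ} (hC : C < 1365) {p : ℕ} :
    (rmask C).testBit p = true ↔ ∃ k < 96, lpt C k = p := by
  have h := allB_iff.1 rmask_ok C hC
  rw [force_eq] at h
  rw [Nat.eq_of_beq_eq_true h, testBit_orBits]
  rfl

/-- The check that the lowest entries increase strictly, above a bound and below 416. -/
noncomputable def incr (n : ℕ) : ℕ → ℕ → Bool :=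
  Nat.rec (fun lo _ => Nat.ble lo 416)
    (fun _ ih lo b => force (Nat.land b 511) fun v =>
      Nat.ble lo v && Nat.blt v 416 && force (Nat.shiftRight b 9) (ih (Nat.succ v))) n

theorem incr_sound : ∀ n lo b, incr n lo b = true → ∀ k < n,
    lo ≤ ent 9 b k ∧ ent 9 b k < 416 ∧ (k + 1 < n → ent 9 b k < ent 9 b (k + 1))
  | 0, _, _, _, k, hk => absurd hk (by omega)
  | n + 1, lo, b, h, k, hk => by
    have h' : force (Nat.land b 511) (fun v => Nat.ble lo v && Nat.blt v 416 &&
        force (Nat.shiftRight b 9) (incr n (Nat.succ v))) = true := h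
    rw [force_eq, force_eq, show Nat.land b 511 = b &&& (2 ^ 9 - 1) from rfl,
      Nat.and_two_pow_sub_one_eq_mod, Bool.and_eq_true, Bool.and_eq_true, Nat.blt_eq, Nat.ble_eq] at h'
    have hz : ent 9 b 0 = b % 2 ^ 9 := by simp [ent]
    have ih := incr_sound n _ _ h'.2
    rcases k with _ | k
    · rw [hz]
      refine ⟨h'.1.1, h'.1.2, fun hn => ?_⟩
      have := (ih 0 (by omega)).1
      rw [show Nat.shiftRight b 9 = b >>> 9 from rfl, ent_shiftRight] at this
      omega
    · obtain ⟨i1, i2, i3⟩ := ih k (by omega)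
      simp only [show Nat.shiftRight b 9 = b >>> 9 from rfl, ent_shiftRight] at i1 i2 i3
      exact ⟨by omega, i2, fun hn => i3 (by omega)⟩

theorem rows_ok : (allB 1365 fun C => force (blk 864 Data.rowB C) (incr 96 0)) = true := by
  decide +kernel

theorem masks_ok : (allB 1364 fun C => decide (rmask C < rmask (C + 1))) = true := by decide +kernel

/-- The points of a line. -/
def row (C : Fin 1365) : Finset (Fin 416) := Finset.univ.filter fun p => (rmask C.val).testBit p.val

theorem mem_row {C : Fin 1365} {p : Fin 416} : p ∈ row C ↔ ∃ k < 96, lpt C.val k = p.val := by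
  simp [row, testBit_rmask C.isLt]

theorem lpt_spec (C : Fin 1365) {k : ℕ} (hk : k < 96) :
    lpt C.val k < 416 ∧ (k < 95 → lpt C.val k < lpt C.val (k + 1)) := by
  have h := allB_iff.1 rows_ok C.val C.isLt
  rw [force_eq] at h
  obtain ⟨-, h2, h3⟩ := incr_sound 96 0 _ h k hk
  exact ⟨h2, fun hk' => h3 (by omega)⟩

theorem lpt_lt (C : Fin 1365) : ∀ d k, k + d + 1 < 96 → lpt C.val k < lpt C.val (k + d + 1)
  | 0, k, h => (lpt_spec C (by omega)).2 (by omega)
  | d + 1, k, h => (lpt_lt C d k (by omega)).trans ((lpt_spec C (by omega)).2 (by omega))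

theorem card_row (C : Fin 1365) : (row C).card = 96 := by
  have e : row C = (Finset.univ : Finset (Fin 96)).image fun k => ⟨lpt C.val k.val, (lpt_spec C k.isLt).1⟩ := by
    ext p
    rw [mem_row, Finset.mem_image]
    exact ⟨fun ⟨k, hk, e⟩ => ⟨⟨k, hk⟩, Finset.mem_univ _, Fin.ext e⟩,
      fun ⟨k, _, e⟩ => ⟨k.val, k.isLt, congrArg Fin.val e⟩⟩
  rw [e, Finset.card_image_of_injective, Finset.card_univ, Fintype.card_fin]
  intro a b e
  have e' := congrArg Fin.val e
  rcases lt_trichotomy a.val b.val with h | h | h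
  · have := lpt_lt C (b.val - a.val - 1) a.val (by omega)
    rw [show a.val + (b.val - a.val - 1) + 1 = b.val by omega] at this
    simp only at e'; omega
  · exact Fin.ext h
  · have := lpt_lt C (a.val - b.val - 1) b.val (by omega)
    rw [show b.val + (a.val - b.val - 1) + 1 = a.val by omega] at this
    simp only at e'; omega

theorem row_injective : Function.Injective row := by
  intro C D e
  have h : rmask C.val = rmask D.val := Nat.eq_of_testBit_eq fun p => by
    have key : ∀ E : Fin 1365, (rmask E.val).testBit p = true ↔ ∃ h : p < 416, (⟨p, h⟩ : Fin 416) ∈ row E := by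
      intro E
      rw [testBit_rmask E.isLt]
      constructor
      · rintro ⟨k, hk, rfl⟩
        exact ⟨(lpt_spec E hk).1, mem_row.2 ⟨k, hk, rfl⟩⟩
      · rintro ⟨h, hm⟩
        exact mem_row.1 hm
    rw [Bool.eq_iff_iff, key, key, e]
  have hlt : ∀ d a, a + d + 1 < 1365 → rmask a < rmask (a + d + 1) := by
    intro d
    induction d with
    | zero => intro a ha; simpa using allB_iff.1 masks_ok a (by omega)
    | succ d ih =>
      intro a ha
      exact (ih a (by omega)).trans (of_decide_eq_true (allB_iff.1 masks_ok (a + d + 1) (by omega)))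
  rcases lt_trichotomy C.val D.val with hh | hh | hh
  · have := hlt (D.val - C.val - 1) C.val (by omega)
    rw [show C.val + (D.val - C.val - 1) + 1 = D.val by omega] at this
    omega
  · exact Fin.ext hh
  · have := hlt (C.val - D.val - 1) D.val (by omega)
    rw [show D.val + (C.val - D.val - 1) + 1 = C.val by omega] at this
    omega

/-- The equivariance of a generator. -/
noncomputable def eqvAt (g C : ℕ) : Bool := force (rmask (ent 11 (Data.lT.getD g 0) C)) fun m =>
  force (Data.gT.getD g 0) fun t => force (blk 864 Data.rowB C) (testAll t m 96)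

theorem eqv_0 : (allB 1365 fun C => eqvAt 0 C) = true := by decide +kernel
theorem eqv_1 : (allB 1365 fun C => eqvAt 1 C) = true := by decide +kernel
theorem eqv_2 : (allB 1365 fun C => eqvAt 2 C) = true := by decide +kernel
theorem eqv_3 : (allB 1365 fun C => eqvAt 3 C) = true := by decide +kernel
theorem eqv_4 : (allB 1365 fun C => eqvAt 4 C) = true := by decide +kernel
theorem eqv_5 : (allB 1365 fun C => eqvAt 5 C) = true := by decide +kernel

theorem eqv {g : ℕ} (hg : g < 6) {C : ℕ} (hC : C < 1365) : eqvAt g C = true := by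
  interval_cases g
  exacts [allB_iff.1 eqv_0 C hC, allB_iff.1 eqv_1 C hC, allB_iff.1 eqv_2 C hC, allB_iff.1 eqv_3 C hC,
    allB_iff.1 eqv_4 C hC, allB_iff.1 eqv_5 C hC]

theorem row_gen {g : ℕ} (hg : g < 6) (C : Fin 1365) :
    (row C).image (act (SuzG2.setup.g g)) = row (lact (SuzG2.setup.g g) C) := by
  refine Finset.eq_of_subset_of_card_le (fun q hq => ?_) ?_
  · obtain ⟨p, hp, rfl⟩ := Finset.mem_image.1 hq
    obtain ⟨k, hk, e⟩ := mem_row.1 hp
    have h := eqv hg C.isLt
    rw [eqvAt, force_eq, force_eq, force_eq] at h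
    have h' := testAll_sound _ _ _ _ h k hk
    simp only [row, Finset.mem_filter, Finset.mem_univ, true_and]
    rw [lact_g hg, act_g hg, isTab_pl g hg, isTab_pg g hg, ← e]
    exact h'
  · rw [Finset.card_image_of_injective _ (act _).injective, card_row, card_row]

theorem row_act (g : P6) (C : Fin 1365) : row (lact g C) = (row C).image (act g) := by
  obtain ⟨w, hw, rfl⟩ := exists_word g
  induction w with
  | nil => simp [el_nil]
  | cons a w ih =>
    rw [show el (a :: w) = SuzG2.setup.g a * el w from prodw_cons _ a w, map_mul, map_mul, Perm.mul_apply,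
      ← row_gen (hw a List.mem_cons_self), ih fun b hb => hw b (List.mem_cons_of_mem a hb),
      Finset.image_image]
    rfl

/-- The stabiliser of a line. -/
noncomputable def LSt (C : Fin 1365) : Subgroup P6 :=
  (MulAction.stabilizer (Perm (Fin 1365)) C).comap lact

theorem mem_LSt {g : P6} {C : Fin 1365} : g ∈ LSt C ↔ lact g C = C := Iff.rfl

theorem mem_LSt_row {g : P6} {C : Fin 1365} : g ∈ LSt C ↔ ∀ p ∈ row C, act g p ∈ row C := by
  rw [mem_LSt]
  constructor
  · intro h p hp
    rw [← h, row_act]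
    exact Finset.mem_image_of_mem _ hp
  · intro h
    refine row_injective (row_act g C ▸ Finset.eq_of_subset_of_card_le ?_ ?_)
    · intro q hq
      obtain ⟨p, hp, rfl⟩ := Finset.mem_image.1 hq
      exact h p hp
    · rw [Finset.card_image_of_injective _ (act g).injective]

/-- Lines in one orbit of a subgroup. -/
def ConnL (H : Subgroup P6) (i j : Fin 1365) : Prop := ∃ h ∈ H, lact h i = j

theorem ConnL.refl {H : Subgroup P6} (i : Fin 1365) : ConnL H i i := ⟨1, H.one_mem, by simp⟩

theorem ConnL.symm {H : Subgroup P6} {i j : Fin 1365} : ConnL H i j → ConnL H j i := by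
  rintro ⟨h, hh, rfl⟩
  exact ⟨h⁻¹, H.inv_mem hh, by simp [map_inv]⟩

theorem ConnL.trans {H : Subgroup P6} {i j k : Fin 1365} : ConnL H i j → ConnL H j k → ConnL H i k := by
  rintro ⟨h, hh, rfl⟩ ⟨g, hg, rfl⟩
  exact ⟨g * h, H.mul_mem hg hh, by simp [map_mul]⟩

theorem card_orbitL_mul (H : Subgroup P6) (C : Fin 1365) :
    {j | ConnL H C j}.ncard * Nat.card (H ⊓ LSt C : Subgroup P6) = Nat.card H := by
  let _ : MulAction H (Fin 1365) := MulAction.compHom _ (lact.comp H.subtype)
  have horb : MulAction.orbit H C = {j | ConnL H C j} := by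
    ext j
    exact ⟨fun ⟨h, e⟩ => ⟨h.1, h.2, e⟩, fun ⟨h, hh, e⟩ => ⟨⟨h, hh⟩, e⟩⟩
  have hst : MulAction.stabilizer H C = (H ⊓ LSt C).subgroupOf H := by
    ext h
    exact ⟨fun e => ⟨h.2, e⟩, fun e => e.2⟩
  rw [← horb, ← MulAction.index_stabilizer, mul_comm,
    ← Nat.card_congr (Subgroup.subgroupOfEquivOfLe (inf_le_left : H ⊓ LSt C ≤ H)).toEquiv, ← hst]
  exact Subgroup.card_mul_index _

/-- The first line. -/
def line0 : Fin 1365 := ⟨Data.C0, by decide⟩

/-- A step towards the first line. -/
def stepL (v : ℕ) : ℕ :=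
  if v = Data.C0 then v else ent 11 (Data.lT.getD (ent 3 Data.upL v) 0) v

theorem upL_ok : (allB 1365 fun v => decide (ent 3 Data.upL v < 6) &&
    iterB stepL Data.dL v == Data.C0) = true := by
  decide +kernel

theorem connL_top (i : Fin 1365) : ConnL ⊤ i line0 := by
  have h := fun v hv => by simpa using allB_iff.1 upL_ok v hv
  have key := of_iterB (n := 1365) (f := stepL)
    (P := fun v => ∀ hv : v < 1365, ConnL ⊤ ⟨v, hv⟩ line0) (fun v hv => ?_) Data.dL i.val i.isLt
    (fun _ => by simp only [(h i.val i.isLt).2]; exact ConnL.refl _) i.isLt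
  · exact key
  · by_cases h0 : v = Data.C0
    · subst h0
      simp only [stepL]
      exact ⟨hv, id⟩
    · simp only [stepL, if_neg h0]
      have hg := (h v hv).1
      have hlt := (invTabOK_spec (lT_ok _ hg) hv).1
      refine ⟨hlt, fun hp hv' => ConnL.trans ⟨SuzG2.setup.g (ent 3 Data.upL v), trivial, ?_⟩ (hp hlt)⟩
      exact Fin.ext (by rw [lact_g hg]; exact isTab_pl _ hg ⟨v, hv'⟩)

theorem connL_top_all (i j : Fin 1365) : ConnL ⊤ i j := (connL_top i).trans (connL_top j).symm

theorem card_LSt (C : Fin 1365) : Nat.card (LSt C) = 184320 := by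
  have h := card_orbitL_mul ⊤ C
  rw [show {j | ConnL ⊤ C j} = Set.univ from Set.eq_univ_of_forall (connL_top_all C), Set.ncard_univ,
    Nat.card_fin, top_inf_eq, Nat.card_congr (Subgroup.topEquiv (G := P6)).toEquiv, card_P6] at h
  omega

/-- The generators of the stabiliser of the first line. -/
noncomputable def klG (i : ℕ) : P6 :=
  if i < 12 then uGen i else el (Data.kRep.getD (i - 12) (0, [], 0, 0, 0, 0)).2.1

/-- Their words. -/
def klW (i : ℕ) : List ℕ :=
  if i < 12 then Data.wU.getD i [] else (Data.kRep.getD (i - 12) (0, [], 0, 0, 0, 0)).2.1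

theorem klG_eq (i : ℕ) : klG i = el (klW i) := by
  unfold klG klW
  split <;> rfl

theorem klT_ok : ∀ i < 15, (klW i).all (fun a => decide (a < 6)) = true ∧
    wordTab 1365 11 Data.lT (klW i) (Data.klT.getD i 0) = true ∧
    ent 11 (Data.klT.getD i 0) Data.C0 = Data.C0 := by
  decide +kernel

theorem isTab_klG {i : ℕ} (hi : i < 15) : IsTab 11 (lact (klG i)) (Data.klT.getD i 0) := by
  obtain ⟨h1, h2, -⟩ := klT_ok i hi
  rw [klG_eq, lact_el (by simpa using h1)]
  exact wordTab_sound isTab_pl (by simpa using h1) h2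

theorem klG_mem {i : ℕ} (hi : i < 15) : klG i ∈ LSt line0 :=
  Fin.ext ((isTab_klG hi line0).trans (klT_ok i hi).2.2)

/-- The orbit of a line under the stabiliser of the first. -/
def llab (v : ℕ) : ℕ := ent 2 Data.labL v

/-- Representatives of these orbits. -/
def rootL : List ℕ := [906, 130, 1, 0]

/-- A step towards them. -/
def stepK (v : ℕ) : ℕ :=
  if v = rootL.getD (llab v) 1365 then v else ent 11 (Data.klT.getD (ent 4 Data.upK v) 0) v

theorem upK_ok : (allB 1365 fun v => decide (ent 4 Data.upK v < 15) && decide (stepK v < 1365) &&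
    llab (stepK v) == llab v && iterB stepK Data.dK v == rootL.getD (llab v) 1365) = true := by
  decide +kernel

theorem connL_of_llab (i j : Fin 1365) (e : llab i.val = llab j.val) : ConnL (LSt line0) i j := by
  have h := fun v hv => by simpa using allB_iff.1 upK_ok v hv
  have hr : ∀ i : Fin 1365, ∃ hlt : rootL.getD (llab i.val) 1365 < 1365,
      ConnL (LSt line0) i ⟨_, hlt⟩ := by
    intro i
    have hit : ∀ k v, v < 1365 → iterB stepK k v < 1365 ∧ llab (iterB stepK k v) = llab v := by
      intro k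
      induction k with
      | zero => exact fun v hv => ⟨hv, rfl⟩
      | succ k ih => exact fun v hv => ⟨(ih _ (h v hv).1.1.2).1, (ih _ (h v hv).1.1.2).2.trans (h v hv).1.2⟩
    have key := of_iterB (n := 1365) (f := stepK)
      (P := fun v => ∀ hv : v < 1365, ∃ hlt : rootL.getD (llab v) 1365 < 1365,
        ConnL (LSt line0) ⟨v, hv⟩ ⟨_, hlt⟩)
      (fun v hv => ⟨(h v hv).1.1.2, fun hp hv' => ?_⟩) Data.dK i.val i.isLt ?_ i.isLt
    · exact key
    · obtain ⟨hlt, hc⟩ := hp (h v hv).1.1.2
      simp only [(h v hv).1.2] at hlt hc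
      by_cases hroot : v = rootL.getD (llab v) 1365
      · exact ⟨hlt, by simp only [← hroot]; exact ConnL.refl _⟩
      · refine ⟨hlt, ConnL.trans ⟨klG (ent 4 Data.upK v), klG_mem (h v hv).1.1.1, Fin.ext ?_⟩ hc⟩
        rw [isTab_klG (h v hv).1.1.1]
        show _ = stepK v
        rw [stepK, if_neg hroot]
    · intro hv
      obtain ⟨h1, h2⟩ := hit Data.dK i.val i.isLt
      have he := (h i.val i.isLt).2
      simp only [← List.getD_eq_getElem?_getD] at he
      refine ⟨by rw [h2, ← he]; exact h1, ?_⟩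
      rw [he] at h2
      simp only [he, h2]
      exact ConnL.refl _
  obtain ⟨h1, c1⟩ := hr i
  obtain ⟨h2, c2⟩ := hr j
  simp only [← e] at c2
  exact c1.trans c2.symm

/-- The lines adjacent to the first one. -/
def T0 : Set (Fin 1365) := {D | llab D.val = 2}

/-- The size of a union of orbits. -/
def unionSizeL (c : List Bool) : ℕ := ((List.range 1365).filter fun v => c.getD (llab v) false).length

theorem llab_sizes : (allB 1365 fun v => decide (llab v < 4)) = true ∧ llab Data.C0 = 0 ∧
    ∀ b1 b2 b3 : Bool, unionSizeL [false, b1, b2, b3] = 320 → b1 = false ∧ b2 = true ∧ b3 = false := by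
  decide +kernel

theorem t0_unique {S : Set (Fin 1365)} (hinv : ∀ g ∈ LSt line0, ∀ D ∈ S, lact g D ∈ S)
    (h0 : line0 ∉ S) (hcard : S.ncard = 320) : S = T0 := by
  classical
  obtain ⟨hlt, hC0, hm⟩ := llab_sizes
  have hlt' : ∀ v : Fin 1365, llab v.val < 4 := fun v => by simpa using allB_iff.1 hlt v.val v.isLt
  let c : List Bool := (List.range 4).map fun l => decide (∃ D ∈ S, llab D.val = l)
  have hc : ∀ v : Fin 1365, v ∈ S ↔ c.getD (llab v.val) false = true := by
    intro v
    rw [List.getD_eq_getElem _ _ (by simpa [c] using hlt' v)]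
    simp only [c, List.getElem_map, List.getElem_range, decide_eq_true_eq]
    refine ⟨fun h => ⟨v, h, rfl⟩, fun ⟨D, hD, e⟩ => ?_⟩
    obtain ⟨g, hg, rfl⟩ := connL_of_llab D v e
    exact hinv g hg D hD
  have hc0 : c.getD 0 false = false := by
    rw [← hC0]
    exact Bool.eq_false_iff.2 fun h => h0 ((hc line0).2 h)
  have hsize : unionSizeL c = 320 := by
    rw [← hcard, unionSizeL, ← List.toFinset_card_of_nodup ((List.nodup_range).filter _),
      ← Set.ncard_coe_finset, ← Set.ncard_image_of_injective S Fin.val_injective]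
    congr 1
    ext v
    simp only [List.coe_toFinset, Set.mem_setOf_eq, List.mem_filter, List.mem_range, Set.mem_image]
    exact ⟨fun ⟨hv, h⟩ => ⟨⟨v, hv⟩, (hc _).2 h, rfl⟩, fun ⟨D, hD, e⟩ => e ▸ ⟨D.isLt, (hc D).1 hD⟩⟩
  obtain ⟨b1, b2, b3, hb⟩ : ∃ b1 b2 b3, c = [false, b1, b2, b3] :=
    ⟨c.getD 1 false, c.getD 2 false, c.getD 3 false, by
      refine List.ext_getElem (by simp [c]) fun i h1 h2 => ?_
      simp only [List.length_cons, List.length_nil] at h2
      interval_cases i
      · rw [← List.getD_eq_getElem _ false h1, hc0]; rfl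
      all_goals exact (List.getD_eq_getElem _ false h1).symm⟩
  rw [hb] at hsize
  obtain ⟨rfl, rfl, rfl⟩ := hm b1 b2 b3 hsize
  ext v
  rw [hc, hb]
  show _ ↔ llab v.val = 2
  have := hlt' v
  interval_cases llab v.val <;> simp

end CfsgLib.SuzRank
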