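import Cfsg.Agent.SuzRank.Lines

/-!
# The graph of valency 100 on the 416 points
-/

set_option autoImplicit false
set_option maxRecDepth 100000

namespace CfsgLib.SuzRank

open CfsgLib.CosetEnum

/-- A neighbour of a point. -/
def nth (v k : ℕ) : ℕ := ent 9 (blk 900 Data.locB v) k

/-- The neighbours of a point as bits. -/
noncomputable def nmask (v : ℕ) : ℕ := force (blk 900 Data.locB v) (orBits 100)

theorem testBit_nmask (v p : ℕ) : (nmask v).testBit p = true ↔ ∃ k < 100, nth v k = p := by
  rw [nmask, force_eq, testBit_orBits]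
  rfl

/-- Neighbouring points. -/
def Nb (u v : Fin 416) : Prop := ∃ k < 100, nth u.val k = v.val

theorem nb_iff {u v : Fin 416} : Nb u v ↔ (nmask u.val).testBit v.val = true :=
  (testBit_nmask _ _).symm

theorem loc_ok : (allB 416 fun v => force (blk 900 Data.locB v) (incr 100 0)) = true := by decide +kernel

theorem nth_lt (u : Fin 416) {k : ℕ} (hk : k < 100) : nth u.val k < 416 := by
  have h := allB_iff.1 loc_ok u.val u.isLt
  rw [force_eq] at h
  exact (incr_sound 100 0 _ h k hk).2.1

/-- The invariance under a generator. -/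
noncomputable def locAt (g v : ℕ) : Bool := force (nmask (ent 9 (Data.gT.getD g 0) v)) fun m =>
  force (Data.gT.getD g 0) fun t => force (blk 900 Data.locB v) (testAll t m 100)

theorem loc_inv : ∀ g < 6, (allB 416 fun v => locAt g v) = true := by decide +kernel

theorem nb_act_mp (g : P6) {u v : Fin 416} (h : Nb u v) : Nb (act g u) (act g v) := by
  obtain ⟨w, hw, rfl⟩ := exists_word g
  induction w with
  | nil => simpa [el_nil] using h
  | cons a w ih =>
    rw [show el (a :: w) = SuzG2.setup.g a * el w from prodw_cons _ a w, map_mul, Equiv.Perm.mul_apply,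
      Equiv.Perm.mul_apply, act_g (hw a List.mem_cons_self)]
    have ha := hw a List.mem_cons_self
    obtain ⟨k, hk, hkv⟩ := ih fun b hb => hw b (List.mem_cons_of_mem a hb)
    have h2 := allB_iff.1 (loc_inv a ha) (act (el w) u).val (act (el w) u).isLt
    rw [locAt, force_eq, force_eq, force_eq] at h2
    have h3 := testAll_sound _ _ _ _ h2 k hk
    rw [nb_iff, isTab_pg a ha, isTab_pg a ha, ← hkv]
    exact h3

theorem nb_act (g : P6) {u v : Fin 416} : Nb (act g u) (act g v) ↔ Nb u v :=
  ⟨fun h => by simpa [map_inv] using nb_act_mp g⁻¹ h, nb_act_mp g⟩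

theorem nb_fxp : (allB 416 fun v => (nmask (fxp 0).val).testBit v == (labJf 0 v == 1)) = true := by
  decide +kernel

theorem nb_fxp_iff (v : Fin 416) : Nb (fxp 0) v ↔ labJf 0 v.val = 1 := by
  have h := allB_iff.1 nb_fxp v.val v.isLt
  rw [beq_iff_eq] at h
  rw [nb_iff, h, beq_iff_eq]

end CfsgLib.SuzRank
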