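import Cfsg.Agent.SuzRank.Sylow

/-!
# Subgroups of order 604800 of `G₂(4)` fix a point
-/

set_option autoImplicit false
set_option maxRecDepth 100000

namespace CfsgLib.SuzRank

open Subgroup

/-- The table of the element of order 7. -/
def xT : ℕ := 0x80950c4ed0e246ab14256690ccf5f498e40272500b3686eceddc8e991004997094dd84f3951de1341318362f6ca11af103e02e2a68a3a32080cdb328edff904b5e80f151aa211f74231756e132bd2c1e840493e519fc49b1374c9b3b3391f1680c824c5a9eef75146a2abb3e7549eff47385b8b0c456b59015b893e6e72c3f8771cc6716515e53864fcd27d7303ae44d118bec9187844262006035ef07e5e8f2003d2d9c42a42c3b2430f26d54e40d8ad0a0da81af8803cb918dac8f39b01e8f93042c18be932d2c52f2261ddc3483592270843cc93afcd233ada1e920fc6b00117ba932703caafedf4f3a38e36f66a561777d639487344c2e0f02ac6e57278fd3b67a434869c15682e2209a102a500acd4fa975959495c15995d2470d8c17352e4acacf51a023197562b8238ce5159db31972aacc8aab864b370db0df32cb3b15d94c164ebada0223463c6c8b3c12c0210a6b5432fc8392171233aa85835685d2af20a46124752f7a4593e375d26836ef81566718b4a3c4c22c688529354c321dfca86fba578251fcb5bd0a661784f434c940e638b6a799a5552b2ca371cec4c64fb87242d23037d41539873d5d391e8ee353152228a466669485c1879c8c969d3d3041222e853ccc42f8a2d796004645aa746e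

/-- Representatives of the orbit labels of point stabilisers. -/
def rootJ : List (List ℕ) := [[4, 3, 0], [56, 2, 0], [199, 3, 0]]

/-- Representatives of the orbit labels of pair stabilisers. -/
def rootU : List (List ℕ) := [[199, 56, 3, 15, 2, 0], [4, 199, 3, 7, 15, 0], [56, 4, 3, 2, 7, 0]]

/-- Representatives of the meets of two label partitions. -/
def meets : List (List (List ℕ)) := [[[], [0, 2, 3, 4, 7, 14, 15, 29, 40, 56, 199], [0, 2, 3, 4, 7, 14, 15, 29, 40, 56, 199]],
  [[0, 2, 3, 4, 7, 14, 15, 29, 40, 56, 199], [], [0, 2, 3, 4, 7, 14, 15, 29, 40, 56, 199]],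
  [[0, 2, 3, 4, 7, 14, 15, 29, 40, 56, 199], [0, 2, 3, 4, 7, 14, 15, 29, 40, 56, 199], []]]

/-- A natural number as a point. -/
def pt (i : ℕ) : Fin 416 := ⟨i % 416, Nat.mod_lt _ (by norm_num)⟩

theorem pt_val (i : Fin 416) : pt i.val = i := Fin.ext (Nat.mod_eq_of_lt i.isLt)

/-- The orbits of a subgroup are unions of label classes. -/
def Coarse (H : Subgroup P6) (lab : ℕ → ℕ) : Prop :=
  ∀ i j : Fin 416, lab i.val = lab j.val → Conn H i j

theorem Coarse.mono {H K : Subgroup P6} {lab : ℕ → ℕ} (h : H ≤ K) (hc : Coarse H lab) :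
    Coarse K lab := fun i j e => (hc i j e).mono h

/-- The step of a tree. -/
def treeStep (tabs : List ℕ) (w up : ℕ) (roots : List ℕ) (lab : ℕ → ℕ) (v : ℕ) : ℕ :=
  if v = roots.getD (lab v) 416 then v else ent 9 (tabs.getD (ent w up v) 0) v

/-- The check of a tree. -/
def treeOK (tabs : List ℕ) (w up d : ℕ) (roots : List ℕ) (lab : ℕ → ℕ) : Bool :=
  allB 416 fun v => decide (ent w up v < tabs.length) && decide (treeStep tabs w up roots lab v < 416) &&
    lab (treeStep tabs w up roots lab v) == lab v &&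
    iterB (treeStep tabs w up roots lab) d v == roots.getD (lab v) 416

theorem coarse_of_tree {H : Subgroup P6} {tabs : List ℕ} {w up d : ℕ} {roots : List ℕ} {lab : ℕ → ℕ}
    (hH : ∀ a < tabs.length, ∃ h ∈ H, IsTab 9 (act h) (tabs.getD a 0))
    (hok : treeOK tabs w up d roots lab = true) : Coarse H lab := by
  have h := fun v hv => by simpa using allB_iff.1 hok v hv
  have hr : ∀ i : Fin 416, roots.getD (lab i.val) 416 < 416 ∧
      Conn H i (pt (roots.getD (lab i.val) 416)) := by
    intro i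
    have key := of_iterB (n := 416) (f := treeStep tabs w up roots lab)
      (P := fun v => v < 416 ∧ Conn H (pt v) (pt (roots.getD (lab v) 416)))
      (fun v hv => ⟨(h v hv).1.1.2, fun hp => ⟨hv, ?_⟩⟩)
    · have hlt : ∀ k v, v < 416 → iterB (treeStep tabs w up roots lab) k v < 416 ∧
          lab (iterB (treeStep tabs w up roots lab) k v) = lab v := by
        intro k
        induction k with
        | zero => exact fun v hv => ⟨hv, rfl⟩
        | succ k ih =>
          exact fun v hv => ⟨(ih _ (h v hv).1.1.2).1, (ih _ (h v hv).1.1.2).2.trans (h v hv).1.2⟩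
      have hend := hlt d i.val i.isLt
      have := key d i.val i.isLt ⟨hend.1, by rw [hend.2, (h i.val i.isLt).2]; exact Conn.refl _⟩
      rw [(h i.val i.isLt).2] at hend
      exact ⟨hend.1, by simpa [pt_val] using this.2⟩
    · obtain ⟨hlt', hp⟩ := hp
      rw [(h v hv).1.2] at hp
      by_cases hroot : v = roots.getD (lab v) 416
      · rw [← hroot]; exact Conn.refl _
      · refine Conn.trans ?_ hp
        obtain ⟨g, hg, htab⟩ := hH (ent w up v) (h v hv).1.1.1
        refine ⟨g, hg, Fin.ext ?_⟩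
        rw [htab, show (pt v).val = v from Nat.mod_eq_of_lt hv]
        show _ = (treeStep tabs w up roots lab v) % 416
        rw [Nat.mod_eq_of_lt hlt', treeStep, if_neg hroot]
  intro i j e
  exact (e ▸ (hr i).2).trans (hr j).2.symm

/-- The labels for a point. -/
def labJf (pi : ℕ) (v : ℕ) : ℕ := ent 2 (Data.labJ.getD pi 0) v

/-- The labels for a pair. -/
def labUf (t : ℕ) (v : ℕ) : ℕ := ent 3 (Data.labU.getD t 0) v

/-- The fixed points of the element of order 7. -/
def fxp (pi : ℕ) : Fin 416 := pt (Data.fx.getD pi 0)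

/-- The first point of a pair. -/
def pa (t : ℕ) : Fin 416 := pt (Data.pairs.getD t (0, 0)).1

/-- The second point of a pair. -/
def pb (t : ℕ) : Fin 416 := pt (Data.pairs.getD t (0, 0)).2

/-- The element of order 7. -/
noncomputable def x7 : P6 := el Data.wX

theorem xT_ok : elTab Data.wX xT = true := by decide +kernel

theorem isTab_x7 : IsTab 9 (act x7) xT := isTab_act_el xT_ok

theorem x7_pow : x7 ^ 7 = 1 := by
  rw [x7, ← el_replicate, ← el_nil]
  exact el_eq_of_sameOn (by decide +kernel) (by simp) (by decide +kernel)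

/-- A subgroup is the stabiliser of a point. -/
def IsPt (H : Subgroup P6) : Prop := ∃ p, H = St p

theorem isPt_of_fix {H : Subgroup P6} (hH : Nat.card H = 604800) {p : Fin 416}
    (h : {j | Conn H p j}.ncard = 1) : IsPt H := by
  have := card_orbit_mul H p
  rw [h, one_mul] at this
  have e : H ⊓ St p = H := eq_of_le_of_card_ge inf_le_left (by rw [this])
  exact ⟨p, eq_of_le_of_card_ge (inf_eq_left.1 e) (by rw [hH, card_St])⟩

/-- The size of a union of label classes. -/
def unionSize (lab : ℕ → ℕ) (c : List Bool) : ℕ :=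
  ((List.range 416).filter fun v => c.getD (lab v) false).length

theorem exists_mask {H : Subgroup P6} {lab : ℕ → ℕ} (hc : Coarse H lab) (n : ℕ)
    (hn : ∀ i : Fin 416, lab i.val < n) (p : Fin 416) :
    ∃ c : List Bool, c.length = n ∧ (∀ j, Conn H p j ↔ c.getD (lab j.val) false = true) ∧
      {j | Conn H p j}.ncard = unionSize lab c := by
  classical
  refine ⟨(List.range n).map fun l => decide (∃ j : Fin 416, lab j.val = l ∧ Conn H p j), by simp, ?_, ?_⟩
  · intro j
    rw [List.getD_eq_getElem _ _ (by simpa using hn j)]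
    simp only [List.getElem_map, List.getElem_range, decide_eq_true_eq]
    exact ⟨fun h => ⟨j, rfl, h⟩, fun ⟨i, e, h⟩ => h.trans (hc i j e)⟩
  · rw [unionSize, ← List.toFinset_card_of_nodup ((List.nodup_range).filter _), ← Set.ncard_coe_finset,
      ← Set.ncard_image_of_injective {j : Fin 416 | _} Fin.val_injective]
    congr 1
    ext v
    simp only [Set.mem_image, Set.mem_setOf_eq, List.coe_toFinset, List.mem_filter, List.mem_range]
    constructor
    · rintro ⟨j, hj, rfl⟩
      refine ⟨j.isLt, ?_⟩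
      rw [List.getD_eq_getElem _ _ (by simpa using hn j)]
      simp only [List.getElem_map, List.getElem_range, decide_eq_true_eq]
      exact ⟨j, rfl, hj⟩
    · rintro ⟨hv, e⟩
      refine ⟨⟨v, hv⟩, ?_, rfl⟩
      rw [List.getD_eq_getElem _ _ (by simpa using hn ⟨v, hv⟩)] at e
      simp only [List.getElem_map, List.getElem_range, decide_eq_true_eq] at e
      obtain ⟨i, e, h⟩ := e
      exact h.trans (hc i ⟨v, hv⟩ e)

theorem labJ_facts : ∀ pi < 3, (allB 416 fun v => decide (labJf pi v < 3)) = true ∧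
    ∀ b0 b1 b2 : Bool, [b0, b1, b2].getD (labJf pi (fxp pi).val) false = true →
      604800 % unionSize (labJf pi) [b0, b1, b2] = 0 → unionSize (labJf pi) [b0, b1, b2] = 1 := by
  decide +kernel

theorem point_of_coarseJ {H : Subgroup P6} (hH : Nat.card H = 604800) {pi : ℕ} (hpi : pi < 3)
    (hc : Coarse H (labJf pi)) : IsPt H := by
  obtain ⟨hlt, hm⟩ := labJ_facts pi hpi
  obtain ⟨c, hlen, hc1, hc2⟩ := exists_mask hc 3 (fun i => by simpa using allB_iff.1 hlt i.val i.isLt)
    (fxp pi)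
  obtain ⟨b0, b1, b2, rfl⟩ : ∃ b0 b1 b2, c = [b0, b1, b2] := by
    match c, hlen with
    | [b0, b1, b2], _ => exact ⟨b0, b1, b2, rfl⟩
  refine isPt_of_fix hH (p := fxp pi) (hc2.trans (hm b0 b1 b2 ((hc1 _).1 (Conn.refl _)) ?_))
  rw [← hc2]
  exact Nat.mod_eq_zero_of_dvd (hH ▸ Dvd.intro _ (card_orbit_mul H _))

/-- The check of a representative generating a point stabiliser. -/
def jOK (e : ℕ × List ℕ × ℕ × ℕ × ℕ × ℕ) : Bool :=
  codeOK e.2.1 (cls e.1) && elTab e.2.1 e.2.2.2.2.2 && decide (e.2.2.1 < 3) &&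
    treeOK [xT, e.2.2.2.2.2] 1 e.2.2.2.1 e.2.2.2.2.1 (rootJ.getD e.2.2.1 []) (labJf e.2.2.1) &&
    ent 9 e.2.2.2.2.2 (fxp e.2.2.1).val == (fxp e.2.2.1).val

theorem jRep_ok : ∀ e ∈ Data.jRep, jOK e = true := by decide +kernel

theorem jRep_cover : ∀ pi < 3, ∃ e ∈ Data.jRep, e.2.2.1 = pi := by decide +kernel

theorem fx_fixed : ∀ pi < 3, ent 9 xT (fxp pi).val = (fxp pi).val := by decide +kernel

theorem coarse_jRep {H : Subgroup P6} (hx : x7 ∈ H) {e : ℕ × List ℕ × ℕ × ℕ × ℕ × ℕ}
    (he : e ∈ Data.jRep) (hy : el e.2.1 ∈ H) : Coarse H (labJf e.2.2.1) := by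
  have h := jRep_ok e he
  simp only [jOK, Bool.and_eq_true, decide_eq_true_eq] at h
  refine coarse_of_tree (fun a ha => ?_) h.1.2
  simp only [List.length_cons, List.length_nil] at ha
  interval_cases a
  exacts [⟨x7, hx, isTab_x7⟩, ⟨_, hy, isTab_act_el h.1.1.1.2⟩]

theorem coarse_St {pi : ℕ} (hpi : pi < 3) : Coarse (St (fxp pi)) (labJf pi) := by
  obtain ⟨e, he, rfl⟩ := jRep_cover pi hpi
  have h := jRep_ok e he
  simp only [jOK, Bool.and_eq_true, decide_eq_true_eq, beq_iff_eq] at h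
  refine coarse_jRep (Fin.ext ?_) he (Fin.ext ?_)
  · exact (isTab_x7 _).trans (fx_fixed _ hpi)
  · exact (isTab_act_el h.1.1.1.2 _).trans h.2

/-- A member of the class fixes a pair. -/
def FixPair (k t : ℕ) : Prop := ∀ h : P6, Rep (cls k) h → act h (pa t) = pa t ∧ act h (pb t) = pb t

theorem FixPair.of_repPM {k t : ℕ} (hf : FixPair k t) {h : P6} (hh : RepPM k h) :
    act h (pa t) = pa t ∧ act h (pb t) = pb t := by
  rcases hh with hh | hh
  · exact hf h hh
  · have := hf _ hh
    rw [map_inv, Equiv.Perm.inv_eq_iff_eq, Equiv.Perm.inv_eq_iff_eq] at this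
    exact ⟨this.1.symm, this.2.symm⟩

/-- The conclusion for a member of the class. -/
def Good (k : ℕ) : Prop := ∀ H : Subgroup P6, x7 ∈ H → Nat.card H = 604800 → InD H k →
  IsPt H ∨ ∃ t < 3, Coarse H (labUf t) ∧ FixPair k t

theorem good_j {e : ℕ × List ℕ × ℕ × ℕ × ℕ × ℕ} (he : e ∈ Data.jRep) : Good e.1 := by
  intro H hx hH ⟨y, hy, hr⟩
  have h := jRep_ok e he
  simp only [jOK, Bool.and_eq_true, decide_eq_true_eq] at h
  rw [hr.unique (rep_of_code h.1.1.1.1)] at hy
  exact Or.inl (point_of_coarseJ hH h.1.1.2 (coarse_jRep hx he hy))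

/-- The check of a representative generating a pair stabiliser. -/
def uOK (e : ℕ × List ℕ × ℕ × ℕ × ℕ × ℕ) : Bool :=
  codeOK e.2.1 (cls e.1) && elTab e.2.1 e.2.2.2.2.2 && decide (e.2.2.1 < 3) &&
    treeOK [xT, e.2.2.2.2.2] 1 e.2.2.2.1 e.2.2.2.2.1 (rootU.getD e.2.2.1 []) (labUf e.2.2.1) &&
    ent 9 e.2.2.2.2.2 (pa e.2.2.1).val == (pa e.2.2.1).val &&
    ent 9 e.2.2.2.2.2 (pb e.2.2.1).val == (pb e.2.2.1).val

theorem uRep_ok : ∀ e ∈ Data.uRep, uOK e = true := by decide +kernel

theorem good_u {e : ℕ × List ℕ × ℕ × ℕ × ℕ × ℕ} (he : e ∈ Data.uRep) : Good e.1 := by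
  intro H hx _ ⟨y, hy, hr⟩
  have h := uRep_ok e he
  simp only [uOK, Bool.and_eq_true, decide_eq_true_eq, beq_iff_eq] at h
  have hel := rep_of_code h.1.1.1.1.1
  rw [hr.unique hel] at hy
  refine Or.inr ⟨e.2.2.1, h.1.1.1.2, coarse_of_tree (fun a ha => ?_) h.1.1.2, fun z hz => ?_⟩
  · simp only [List.length_cons, List.length_nil] at ha
    interval_cases a
    exacts [⟨x7, hx, isTab_x7⟩, ⟨_, hy, isTab_act_el h.1.1.1.1.2⟩]
  · rw [hz.unique hel]
    exact ⟨Fin.ext (by rw [isTab_act_el h.1.1.1.1.2]; exact h.1.2),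
      Fin.ext (by rw [isTab_act_el h.1.1.1.1.2]; exact h.2)⟩

/-- The check of a representative generating an element of order 13. -/
def bOK (e : ℕ × List ℕ × List ℕ × ℕ) : Bool :=
  codeOK e.2.1 (cls e.1) && elTab e.2.1 e.2.2.2 && e.2.2.1.all (fun a => decide (a < 2)) &&
    sameOn 416 9 [xT, e.2.2.2] (List.replicate 13 e.2.2.1).flatten [] &&
    !sameOn 416 9 [xT, e.2.2.2] e.2.2.1 []

theorem bRep_ok : ∀ e ∈ Data.bRep, bOK e = true := by decide +kernel

theorem not_order_13 {H : Subgroup P6} (hH : Nat.card H = 604800) {g : P6} (hg : g ∈ H)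
    (h13 : g ^ 13 = 1) : g = 1 := by
  by_contra hne
  haveI : Fact (Nat.Prime 13) := ⟨by norm_num⟩
  have := orderOf_eq_prime h13 hne
  have hd : orderOf g ∣ Nat.card H := (zpowers_le.2 hg).trans le_rfl |>
    fun h => Nat.card_zpowers g ▸ card_dvd_of_le h
  rw [this, hH] at hd
  norm_num at hd

theorem prod_map_flatten_replicate {M : Type*} [Monoid M] (φ : ℕ → M) (w : List ℕ) :
    ∀ n, ((List.replicate n w).flatten.map φ).prod = (w.map φ).prod ^ n
  | 0 => by simp
  | n + 1 => by
    rw [List.replicate_succ, List.flatten_cons, List.map_append, List.prod_append,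
      prod_map_flatten_replicate φ w n, pow_succ']

theorem good_b {e : ℕ × List ℕ × List ℕ × ℕ} (he : e ∈ Data.bRep) : Good e.1 := by
  intro H hx hH ⟨y, hy, hr⟩
  exfalso
  have h := bRep_ok e he
  simp only [bOK, Bool.and_eq_true, List.all_eq_true, decide_eq_true_eq, Bool.not_eq_true'] at h
  rw [hr.unique (rep_of_code h.1.1.1.1)] at hy
  let f : ℕ → P6 := fun a => if a = 0 then x7 else el e.2.1
  have hf : ∀ a < 2, IsTab 9 ((act ∘ f) a) ([xT, e.2.2.2].getD a 0) := by
    intro a ha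
    interval_cases a
    exacts [isTab_x7, isTab_act_el h.1.1.1.2]
  have hlet : ∀ a ∈ (List.replicate 13 e.2.2.1).flatten, a < 2 := by
    intro a ha
    simp only [List.mem_flatten, List.mem_replicate] at ha
    obtain ⟨l, ⟨-, rfl⟩, hl⟩ := ha
    exact h.1.1.2 a hl
  set g := (e.2.2.1.map f).prod with hgdef
  have hgH : g ∈ H := Subgroup.list_prod_mem _ fun z hz => by
    obtain ⟨a, -, rfl⟩ := List.mem_map.1 hz
    by_cases ha : a = 0 <;> simp [f, ha, hx, hy]
  have hg13 : g ^ 13 = 1 := by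
    refine act_injective ?_
    have e13 := sameOn_sound hf hlet (by simp) h.1.2
    rw [← List.map_map, ← map_list_prod, prod_map_flatten_replicate] at e13
    rw [map_one]
    exact e13
  have hg1 : g = 1 := not_order_13 hH hgH hg13
  refine Bool.eq_false_iff.1 h.2 (allB_iff.2 fun i hi => beq_iff_eq.2 ?_)
  rw [show i = (⟨i, hi⟩ : Fin 416).val from rfl, wimg_eq hf _ h.1.1.2, ← List.map_map, ← map_list_prod,
    ← hgdef, hg1, map_one]
  rfl

/-- A normalising element. -/
noncomputable def nG (g : ℕ) : P6 := el (Data.wNs.getD g [])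

/-- The action on the class. -/
def sn (g k : ℕ) : ℕ := ent 12 (Data.snT.getD g 0) k

/-- The exponent carried back. -/
def nInv (g : ℕ) : ℕ := Data.nExp.getD g 0 ^ 5

theorem n_ok : ∀ g < 3, (Data.wNs.getD g []).all (fun a => decide (a < 6)) = true ∧
    sameOn 416 9 Data.gT (Data.wNs.getD g [] ++ Data.wX ++ (Data.wNs.getD g []).reverse)
      (List.replicate (Data.nExp.getD g 0) Data.wX).flatten = true ∧
    Data.nExp.getD g 0 * nInv g % 7 = 1 ∧
    wordTab 2080 12 Data.sgT (Data.wNs.getD g []) (Data.snT.getD g 0) = true := by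
  decide +kernel

theorem nG_lt {g : ℕ} (hg : g < 3) : ∀ a ∈ Data.wNs.getD g [], a < 6 := by
  simpa using (n_ok g hg).1

theorem nG_conj {g : ℕ} (hg : g < 3) : nG g * x7 ^ nInv g * (nG g)⁻¹ = x7 := by
  have h1 : nG g * x7 * (nG g)⁻¹ = x7 ^ Data.nExp.getD g 0 := by
    rw [nG, x7, ← el_reverse, ← el_append, ← el_append, ← el_replicate]
    refine el_eq_of_sameOn (fun a ha => ?_) (fun a ha => ?_) (n_ok g hg).2.1
    · simp only [List.mem_append, List.mem_reverse] at ha
      rcases ha with (ha | ha) | ha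
      exacts [nG_lt hg a ha, (by decide +kernel : ∀ a ∈ Data.wX, a < 6) a ha, nG_lt hg a ha]
    · simp only [List.mem_flatten, List.mem_replicate] at ha
      obtain ⟨l, ⟨-, rfl⟩, hl⟩ := ha
      exact (by decide +kernel : ∀ a ∈ Data.wX, a < 6) a hl
  rw [← conj_pow, h1, ← pow_mul, ← Nat.mod_add_div (_ * nInv g) 7, (n_ok g hg).2.2.1, pow_add, pow_one,
    pow_mul, x7_pow, one_pow, mul_one]

theorem repPM_nG {g k : ℕ} (hg : g < 3) (hk : k < 2080) {y : P6} (hy : RepPM k y) :
    RepPM (sn g k) (nG g * y * (nG g)⁻¹) := by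
  have := repPM_conj (nG_lt hg) hk hy
  rwa [show sgW (Data.wNs.getD g []) k = sn g k from by
    simpa [sgW, sn] using allB_iff.1 (n_ok g hg).2.2.2 k hk] at this

theorem pair_move : ∀ g < 3, ∀ t' < 3, ∃ t < 3, (Data.tMap.getD g []).getD t 3 = t' ∧
    (wimg 9 Data.gT (Data.wNs.getD g []) (pa t).val = (pa t').val ∨
      wimg 9 Data.gT (Data.wNs.getD g []) (pa t).val = (pb t').val) ∧
    (wimg 9 Data.gT (Data.wNs.getD g []) (pb t).val = (pa t').val ∨
      wimg 9 Data.gT (Data.wNs.getD g []) (pb t).val = (pb t').val) ∧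
    (allB 416 fun i => labUf t' (wimg 9 Data.gT (Data.wNs.getD g []) i) ==
      ((Data.rhoU.getD g []).getD t []).getD (labUf t i) 6) = true := by
  decide +kernel

theorem good_step {g k : ℕ} (hg : g < 3) (hk : k < 2080) (hgood : Good (sn g k)) : Good k := by
  intro H hx hH hD
  set n := nG g with hn
  let K : Subgroup P6 := H.map (MulAut.conj n).toMonoidHom
  have hK : Nat.card K = 604800 := (card_map_of_injective (MulAut.conj n).injective).trans hH
  have hxK : x7 ∈ K := ⟨x7 ^ nInv g, pow_mem hx _, nG_conj hg⟩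
  have hDK : InD K (sn g k) := by
    obtain ⟨y, hy, hr⟩ := hD
    exact InD.of_repPM (show n * y * n⁻¹ ∈ K from ⟨y, hy, rfl⟩) (repPM_nG hg hk (Or.inl hr))
  rcases hgood K hxK hK hDK with ⟨p, hp⟩ | ⟨t', ht', hc, hf⟩
  · left
    refine ⟨(act n).symm p, SetLike.ext fun h => ?_⟩
    rw [mem_St, Equiv.eq_symm_apply]
    have e : h ∈ H ↔ n * h * n⁻¹ ∈ K :=
      (mem_map_iff_mem (MulAut.conj n).injective).symm
    rw [e, hp, mem_St, map_mul, map_mul, map_inv]
    rfl
  · right
    obtain ⟨t, ht, -, ha, hb, hrho⟩ := pair_move g hg t' ht'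
    refine ⟨t, ht, fun i j e => ?_, fun h hh => ?_⟩
    · have hl : ∀ i : Fin 416, labUf t' (act n i).val =
          ((Data.rhoU.getD g []).getD t []).getD (labUf t i.val) 6 := fun i => by
        rw [hn, nG, act_el_val (nG_lt hg)]
        exact beq_iff_eq.1 (allB_iff.1 hrho i.val i.isLt)
      obtain ⟨z, ⟨z', hz', rfl⟩, hzz⟩ := hc (act n i) (act n j) (by rw [hl, hl, e])
      refine ⟨z', hz', (act n).injective ?_⟩
      simpa [MulAut.conj_apply, map_mul, map_inv] using hzz
    · have hz := hf.of_repPM (repPM_nG hg hk (Or.inl hh))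
      have hfix : ∀ i : Fin 416, ((act n i).val = (pa t').val ∨ (act n i).val = (pb t').val) →
          act h i = i := by
        intro i hi
        refine (act n).injective ?_
        have e : ∀ q : Fin 416, act (n * h * n⁻¹) q = q → act n i = q → act n (act h i) = act n i := by
          rintro q hq rfl
          simpa [map_mul, map_inv] using hq
        rcases hi with hi | hi
        exacts [e _ hz.1 (Fin.ext hi), e _ hz.2 (Fin.ext hi)]
      refine ⟨hfix _ ?_, hfix _ ?_⟩
      · rwa [hn, nG, act_el_val (nG_lt hg)]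
      · rwa [hn, nG, act_el_val (nG_lt hg)]

/-- The representatives. -/
def rootsN : List ℕ :=
  Data.jRep.map (fun e => e.1) ++ Data.uRep.map (fun e => e.1) ++ Data.bRep.map (fun e => e.1) ++ [Data.kC]

/-- A step towards the representatives. -/
def stepN (v : ℕ) : ℕ := if rootsN.elem v then v else sn (ent 2 Data.upN v) v

theorem upN_ok : (allB 2080 fun v => decide (ent 2 Data.upN v < 3) && decide (stepN v < 2080) &&
    (v == Data.kC || !(stepN v == Data.kC)) && rootsN.elem (iterB stepN Data.dN v)) = true := by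
  decide +kernel

theorem good_all {k : ℕ} (hk : k < 2080) (hne : k ≠ Data.kC) : Good k := by
  have h := fun v hv => by simpa using allB_iff.1 upN_ok v hv
  refine of_iterB (n := 2080) (f := stepN) (P := fun v => v ≠ Data.kC → Good v)
    (fun v hv => ⟨(h v hv).1.1.2, fun hp hv' => ?_⟩) Data.dN k hk (fun hroot => ?_) hne
  · have hne' : stepN v ≠ Data.kC := (h v hv).1.2.resolve_left hv'
    by_cases hr : rootsN.elem v = true
    · rw [stepN, if_pos hr] at hp; exact hp hv'
    · rw [stepN, if_neg hr] at hp hne'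
      exact good_step (h v hv).1.1.1 hv (hp hne')
  · have hmem := (h k hk).2
    simp only [rootsN, List.mem_append, List.mem_map, List.mem_singleton, List.elem_eq_mem,
      decide_eq_true_eq] at hmem
    rcases hmem with ((⟨e, he, e1⟩ | ⟨e, he, e1⟩) | ⟨e, he, e1⟩) | e1
    exacts [e1 ▸ good_j he, e1 ▸ good_u he, e1 ▸ good_b he, absurd e1 hroot]

/-- The members of a list connected to its given members by either of two label maps. -/
def grow (W : List ℕ) (f g : ℕ → ℕ) : ℕ → List ℕ → List ℕ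
  | 0, S => S
  | k + 1, S => grow W f g k (W.filter fun u => S.any fun s => f u == f s || g u == g s)

theorem conn_grow {H : Subgroup P6} {W : List ℕ} (hW : ∀ u ∈ W, u < 416) {f g : ℕ → ℕ}
    (hf : Coarse H f) (hg : Coarse H g) (w : Fin 416) : ∀ k (S : List ℕ),
    (∀ s ∈ S, s < 416 ∧ Conn H w (pt s)) → ∀ u ∈ grow W f g k S, u < 416 ∧ Conn H w (pt u)
  | 0, _, h => h
  | k + 1, S, h => by
    refine conn_grow hW hf hg w k _ fun u hu => ?_
    simp only [List.mem_filter, List.any_eq_true, Bool.or_eq_true, beq_iff_eq] at hu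
    obtain ⟨hu, s, hs, e⟩ := hu
    refine ⟨hW u hu, (h s hs).2.trans ?_⟩
    have hv : ∀ v, v < 416 → (pt v).val = v := fun v hv => Nat.mod_eq_of_lt hv
    rcases e with e | e
    · exact hf _ _ (by rw [hv _ (h s hs).1, hv _ (hW u hu), e])
    · exact hg _ _ (by rw [hv _ (h s hs).1, hv _ (hW u hu), e])

/-- The check of the join of two partitions. -/
def joinOK (W : List ℕ) (f g l : ℕ → ℕ) : Bool :=
  W.all (fun u => decide (u < 416)) &&
    allB 416 (fun v => W.any fun u => f u == f v && l u == l v) &&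
    W.all fun u => W.all fun u' => !(l u == l u') || (grow W f g 6 [u]).elem u'

theorem coarse_join {H : Subgroup P6} {W : List ℕ} {f g l : ℕ → ℕ} (hf : Coarse H f) (hg : Coarse H g)
    (h : joinOK W f g l = true) : Coarse H l := by
  simp only [joinOK, Bool.and_eq_true, List.all_eq_true, decide_eq_true_eq, allB_iff, List.any_eq_true,
    beq_iff_eq, Bool.or_eq_true, Bool.not_eq_true', beq_eq_false_iff_ne, List.elem_eq_mem] at h
  intro i j e
  obtain ⟨u, hu, hu1, hu2⟩ := h.1.2 i.val i.isLt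
  obtain ⟨u', hu', hu1', hu2'⟩ := h.1.2 j.val j.isLt
  have hv : ∀ v, v < 416 → (pt v).val = v := fun v hv => Nat.mod_eq_of_lt hv
  have hm : u' ∈ grow W f g 6 [u] :=
    (h.2 u hu u' hu').resolve_left fun hne => hne (by rw [hu2, hu2', e])
  have h1 : Conn H i (pt u) := hf _ _ (by rw [hv _ (h.1.1 u hu), hu1])
  have h2 := (conn_grow h.1.1 hf hg i 6 [u] (by simpa using ⟨h.1.1 u hu, h1⟩) u' hm).2
  exact h2.trans (hf _ _ (by rw [hv _ (h.1.1 u' hu'), hu1']))

theorem meets_ok : ∀ t < 3, ∀ t' < 3, t ≠ t' →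
    joinOK ((meets.getD t []).getD t' []) (labUf t) (labUf t') (labJf (3 - t - t')) = true := by
  decide +kernel

theorem point_of_two {H : Subgroup P6} (hH : Nat.card H = 604800) {t t' : ℕ} (ht : t < 3) (ht' : t' < 3)
    (hne : t ≠ t') (hc : Coarse H (labUf t)) (hc' : Coarse H (labUf t')) : IsPt H :=
  point_of_coarseJ hH (pi := 3 - t - t') (by omega) (coarse_join hc hc' (meets_ok t ht t' ht' hne))

theorem kC_ok : codeOK Data.wC (cls Data.kC) = true ∧ Data.wC.all (fun a => decide (a < 6)) = true ∧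
    ∀ t < 3, Data.tC.getD t 3 < 3 ∧ Data.tC.getD t 3 ≠ t ∧
      (Data.rhoC.getD t []).Nodup ∧ (allB 416 fun i => decide (labUf t i < (Data.rhoC.getD t []).length) &&
        labUf (Data.tC.getD t 3) (wimg 9 Data.gT Data.wC i) ==
          (Data.rhoC.getD t []).getD (labUf t i) 6) = true := by
  decide +kernel

theorem point_of_kC {H : Subgroup P6} (hH : Nat.card H = 604800) (hD : InD H Data.kC) {t : ℕ} (ht : t < 3)
    (hc : Coarse H (labUf t)) : IsPt H := by
  obtain ⟨y, hy, hr⟩ := hD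
  have hw : ∀ a ∈ Data.wC, a < 6 := by simpa using kC_ok.2.1
  obtain rfl := hr.unique (rep_of_code kC_ok.1)
  obtain ⟨ht', hne, hnd, hl⟩ := kC_ok.2.2 t ht
  have hl' : ∀ i : Fin 416, labUf t i.val < (Data.rhoC.getD t []).length ∧
      labUf (Data.tC.getD t 3) (act (el Data.wC) i).val =
        (Data.rhoC.getD t []).getD (labUf t i.val) 6 := fun i => by
    rw [act_el_val hw]; simpa using allB_iff.1 hl i.val i.isLt
  refine point_of_two hH ht ht' (Ne.symm hne) hc fun i j e => ?_
  obtain ⟨i, rfl⟩ := (act (el Data.wC)).surjective i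
  obtain ⟨j, rfl⟩ := (act (el Data.wC)).surjective j
  rw [(hl' i).2, (hl' j).2, List.getD_eq_getElem _ _ (hl' i).1, List.getD_eq_getElem _ _ (hl' j).1,
    hnd.getElem_inj_iff] at e
  obtain ⟨z, hz, hzz⟩ := hc i j e
  exact ⟨el Data.wC * z * (el Data.wC)⁻¹, mul_mem (mul_mem hy hz) (inv_mem hy),
    by simp [map_mul, map_inv, hzz]⟩

theorem false_of_only_kC {H : Subgroup P6} (h25 : 25 ∣ Nat.card H) (hD : InD H Data.kC)
    (honly : ∀ k < 2080, InD H k → k = Data.kC) : False := by
  haveI : Fact (Nat.Prime 5) := ⟨by norm_num⟩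
  obtain ⟨y, hy, hr⟩ := hD
  obtain ⟨s, hs⟩ := exists_conj_mem (H := H) (n := 2) isPGroup_P25 (by simpa using h25)
    (by rw [card_P6]; norm_num)
  have hflip : ∀ g ∈ H, g * y * g⁻¹ = y ∨ g * y * g⁻¹ = y⁻¹ := by
    intro g hg
    obtain ⟨w, hw, rfl⟩ := exists_word g
    have hz := repPM_conj hw (show Data.kC < 2080 by decide) (Or.inl hr)
    have hmem := mul_mem (mul_mem hg hy) (inv_mem hg)
    rw [honly _ (sgW_lt hw (by decide)) (InD.of_repPM hmem hz)] at hz
    rcases hz with hz | hz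
    · exact Or.inl (hz.unique hr)
    · exact Or.inr (inv_eq_iff_eq_inv.1 (hz.unique hr))
  have hcen : ∀ g ∈ H, g ^ 5 = 1 → g * y * g⁻¹ = y := by
    intro g hg h5
    have h2 : (g * g) * y * (g * g)⁻¹ = y := by
      rw [show (g * g) * y * (g * g)⁻¹ = g * (g * y * g⁻¹) * g⁻¹ by group]
      rcases hflip g hg with e | e <;> rw [e]
      · exact e
      · rw [← conj_inv, e, inv_inv]
    have hc : Commute (g * g) y := mul_inv_eq_iff_eq_mul.1 h2
    have hc3 : Commute ((g * g) ^ 3) y := hc.pow_left 3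
    rw [← sq, ← pow_mul, show 2 * 3 = 5 + 1 from rfl, pow_add, h5, one_mul, pow_one] at hc3
    rw [hc3.eq, mul_inv_cancel_right]
  obtain ⟨w, hw, hs'⟩ := exists_word s⁻¹
  have hy' := repPM_conj hw (show Data.kC < 2080 by decide) (Or.inl hr)
  rw [hs', inv_inv] at hy'
  refine not_centralises (sgW_lt hw (by decide)) hy' fun g hg => ?_
  have h5 : g ^ 5 = 1 := by
    obtain ⟨i, -, j, -, rfl⟩ := mem_P25 hg
    rw [(f_commute.pow_pow i j).mul_pow, ← pow_mul, ← pow_mul, mul_comm i, mul_comm j, pow_mul, pow_mul,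
      f_pow 0 (by norm_num), f_pow 1 (by norm_num), one_pow, one_pow, one_mul]
  have := hcen _ (hs g hg) (by rw [conj_pow, h5, mul_one, mul_inv_cancel])
  have e : s * g * s⁻¹ * y = y * (s * g * s⁻¹) := mul_inv_eq_iff_eq_mul.1 this
  calc g * (s⁻¹ * y * s) = s⁻¹ * (s * g * s⁻¹ * y) * s := by group
    _ = s⁻¹ * y * s * g := by rw [e]; group

theorem pair_facts : ∀ t < 3, (allB 416 fun v => decide (labUf t v < 6)) = true ∧
    pa t ≠ pb t ∧ ∃ pi < 3, fxp pi = pa t ∧
      3 ≤ ((List.range 416).filter fun v => labJf pi v == labJf pi (pb t).val).length := by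
  decide +kernel

/-- The check of a union of classes for a pair. -/
def maskOK (t : ℕ) (c : List Bool) : Bool :=
  !(c.getD (labUf t (pa t).val) false) || !(604800 % unionSize (labUf t) c == 0) ||
    decide (56 < unionSize (labUf t) c) || unionSize (labUf t) c == 1 ||
    (unionSize (labUf t) c == 2 && c.getD (labUf t (pb t).val) false)

theorem mask_ok : ∀ t < 3, (allB 64 fun m =>
    maskOK t ((List.range 6).map fun l => m.testBit l)) = true := by
  decide +kernel

theorem bools_six : ∀ b0 b1 b2 b3 b4 b5 : Bool, ∃ m < 64,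
    ((List.range 6).map fun l => Nat.testBit m l) = [b0, b1, b2, b3, b4, b5] := by
  intro b0 b1 b2 b3 b4 b5
  cases b0 <;> cases b1 <;> cases b2 <;> cases b3 <;> cases b4 <;> cases b5 <;> decide +kernel

theorem pair_mask {t : ℕ} (ht : t < 3) (b0 b1 b2 b3 b4 b5 : Bool)
    (h1 : [b0, b1, b2, b3, b4, b5].getD (labUf t (pa t).val) false = true)
    (h2 : 604800 % unionSize (labUf t) [b0, b1, b2, b3, b4, b5] = 0)
    (h3 : unionSize (labUf t) [b0, b1, b2, b3, b4, b5] ≤ 56) :
    unionSize (labUf t) [b0, b1, b2, b3, b4, b5] = 1 ∨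
      unionSize (labUf t) [b0, b1, b2, b3, b4, b5] = 2 ∧
        [b0, b1, b2, b3, b4, b5].getD (labUf t (pb t).val) false = true := by
  obtain ⟨m, hm, e⟩ := bools_six b0 b1 b2 b3 b4 b5
  have h := allB_iff.1 (mask_ok t ht) m hm
  rw [e, maskOK, h1] at h
  simp only [Bool.not_true, Bool.false_or, Bool.or_eq_true, Bool.and_eq_true, Bool.not_eq_true',
    beq_eq_false_iff_ne, beq_iff_eq, decide_eq_true_eq, h2, ne_eq, not_true_eq_false, false_or] at h
  rcases h with (h | h) | h
  · omega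
  · exact Or.inl h
  · exact Or.inr h

theorem point_of_single {H : Subgroup P6} (hH : Nat.card H = 604800) {t : ℕ} (ht : t < 3)
    (hc : Coarse H (labUf t)) {k0 : ℕ} (hk0 : k0 < 2080) (hD : InD H k0)
    (hfix : ∀ k < 2080, InD H k → FixPair k t) : IsPt H := by
  obtain ⟨hlt, hab, pi, hpi, hpa, hJ⟩ := pair_facts t ht
  have hmask := pair_mask ht
  obtain ⟨y, hy, hr⟩ := hD
  have hsub : {j | Conn H (pa t) j} ⊆ {i | act y i = i} := by
    rintro _ ⟨g, hg, rfl⟩
    obtain ⟨w, hw, hw'⟩ := exists_word g⁻¹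
    have hz := repPM_conj hw hk0 (Or.inl hr)
    rw [hw', inv_inv] at hz
    have hzH : g⁻¹ * y * g ∈ H := mul_mem (mul_mem (inv_mem hg) hy) hg
    have := ((hfix _ (sgW_lt hw hk0) (InD.of_repPM hzH hz)).of_repPM hz).1
    rw [map_mul, map_mul, map_inv, Equiv.Perm.mul_apply, Equiv.Perm.mul_apply,
      Equiv.Perm.inv_eq_iff_eq] at this
    exact this
  have h56 : {j | Conn H (pa t) j}.ncard ≤ 56 :=
    (Set.ncard_le_ncard hsub).trans (card_fixed hk0 hr).le
  obtain ⟨c, hlen, hc1, hc2⟩ := exists_mask hc 6 (fun i => by simpa using allB_iff.1 hlt i.val i.isLt)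
    (pa t)
  obtain ⟨b0, b1, b2, b3, b4, b5, rfl⟩ : ∃ b0 b1 b2 b3 b4 b5, c = [b0, b1, b2, b3, b4, b5] := by
    match c, hlen with
    | [b0, b1, b2, b3, b4, b5], _ => exact ⟨b0, b1, b2, b3, b4, b5, rfl⟩
  have horb := card_orbit_mul H (pa t)
  rcases hmask b0 b1 b2 b3 b4 b5 ((hc1 _).1 (Conn.refl _))
      (by rw [← hc2]; exact Nat.mod_eq_zero_of_dvd (hH ▸ Dvd.intro _ horb)) (hc2 ▸ h56) with h | ⟨h, hb⟩
  · exact isPt_of_fix hH (hc2.trans h)
  · exfalso
    rw [hc2, h, hH] at horb
    have hset : {j | Conn H (pa t) j} = {pa t, pb t} := by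
      refine (Set.eq_of_subset_of_ncard_le ?_ ?_ (Set.toFinite _)).symm
      · rintro j (rfl | rfl)
        exacts [Conn.refl _, (hc1 _).2 hb]
      · rw [Set.ncard_pair hab, hc2, h]
    have hle : H ⊓ St (pa t) ≤ St (pa t) ⊓ St (pb t) := by
      intro g hg
      refine ⟨hg.2, ?_⟩
      have h2 : Conn H (pa t) (act g (pb t)) := by
        obtain ⟨z, hz, e⟩ : Conn H (pa t) (pb t) := (hc1 _).2 hb
        exact ⟨g * z, mul_mem hg.1 hz, by rw [map_mul, Equiv.Perm.mul_apply, e]⟩
      have h3 : act g (pb t) ∈ ({pa t, pb t} : Set (Fin 416)) := hset ▸ h2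
      rcases h3 with h3 | h3
      · exact absurd ((act g).injective (h3.trans hg.2.symm)) hab.symm
      · exact h3
    have hbig : 3 ≤ {j | Conn (St (pa t)) (pb t) j}.ncard := by
      refine hJ.trans ?_
      rw [← List.toFinset_card_of_nodup ((List.nodup_range).filter _), ← Set.ncard_coe_finset,
        ← Set.ncard_image_of_injective {j : Fin 416 | Conn (St (pa t)) (pb t) j} Fin.val_injective]
      refine Set.ncard_le_ncard (fun v hv => ?_) (Set.toFinite _)
      simp only [List.coe_toFinset, Set.mem_setOf_eq, List.mem_filter, List.mem_range, beq_iff_eq] at hv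
      exact ⟨⟨v, hv.1⟩, (hpa ▸ coarse_St hpi) _ _ hv.2.symm, rfl⟩
    have h4 := card_orbit_mul (St (pa t)) (pb t)
    rw [card_St] at h4
    have h5 := Nat.card_le_card_of_injective _ (inclusion_injective hle)
    generalize Nat.card (H ⊓ St (pa t) : Subgroup P6) = a at horb h5
    generalize Nat.card (St (pa t) ⊓ St (pb t) : Subgroup P6) = b at h4 h5
    have := Nat.mul_le_mul_right b hbig
    omega

theorem isPt_of_x7 {H : Subgroup P6} (hH : Nat.card H = 604800) (hx : x7 ∈ H) : IsPt H := by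
  obtain ⟨g, hg⟩ := exists_conj_y0 (H := H) (by rw [hH]; norm_num)
  obtain ⟨k0, hk0, hr0⟩ := exists_code (isConj_iff.2 ⟨g, rfl⟩ : IsConj y0 (g * y0 * g⁻¹))
  have hD0 : InD H k0 := InD.of_repPM hg hr0
  by_contra hno
  by_cases hall : ∀ k < 2080, InD H k → k = Data.kC
  · exact false_of_only_kC (by rw [hH]; norm_num) (hall k0 hk0 hD0 ▸ hD0) hall
  push Not at hall
  obtain ⟨k1, hk1, hD1, hne1⟩ := hall
  obtain ⟨t, ht, hc, -⟩ := (good_all hk1 hne1 H hx hH hD1).resolve_left hno
  refine hno (point_of_single hH ht hc hk0 hD0 fun k hk hD => ?_)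
  have hne : k ≠ Data.kC := fun e => hno (point_of_kC hH (e ▸ hD) ht hc)
  obtain ⟨t', ht', hc', hf⟩ := (good_all hk hne H hx hH hD).resolve_left hno
  by_cases e : t = t'
  · exact e ▸ hf
  · exact absurd (point_of_two hH ht ht' e hc hc') hno

/-- A subgroup of order 604800 is the stabiliser of a point. -/
theorem exists_St {H : Subgroup P6} (hH : Nat.card H = 604800) : IsPt H := by
  haveI : Fact (Nat.Prime 7) := ⟨by norm_num⟩
  have h7 : IsPGroup 7 (zpowers x7) := IsPGroup.of_card_dvd_pow (n := 1) (by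
    rw [Nat.card_zpowers, pow_one]; exact orderOf_dvd_of_pow_eq_one x7_pow)
  obtain ⟨s, hs⟩ := exists_conj_mem (H := H) (n := 1) h7 (by rw [hH]; norm_num)
    (by rw [card_P6]; norm_num)
  let K : Subgroup P6 := H.map (MulAut.conj s⁻¹).toMonoidHom
  have hK : Nat.card K = 604800 := (card_map_of_injective (MulAut.conj s⁻¹).injective).trans hH
  obtain ⟨p, hp⟩ := isPt_of_x7 hK ⟨_, hs x7 (mem_zpowers x7), by simp [MulAut.conj_apply, mul_assoc]⟩
  refine ⟨act s p, SetLike.ext fun h => ?_⟩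
  have e : h ∈ H ↔ s⁻¹ * h * (s⁻¹)⁻¹ ∈ K := (mem_map_iff_mem (MulAut.conj s⁻¹).injective).symm
  rw [e, hp, mem_St, mem_St]
  simp only [map_mul, map_inv, inv_inv]
  rw [Equiv.Perm.mul_apply,
    Equiv.Perm.mul_apply, Equiv.Perm.inv_eq_iff_eq]

end CfsgLib.SuzRank
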