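import Mathlib.Algebra.Group.End
import Mathlib.Data.List.GetD
import Mathlib.Logic.Equiv.Basic

/-!
# Packed tables and steps towards roots
-/

set_option autoImplicit false

namespace CfsgLib.SuzRank

open Equiv (Perm)

/-- An entry of a packed table. -/
def ent (w t i : ℕ) : ℕ := (t >>> (w * i)) % 2 ^ w

/-- An entry of a table kept in blocks of sixteen. -/
def blk (w : ℕ) (B : List ℕ) (i : ℕ) : ℕ := ent w (B.getD (i / 16) 0) (i % 16)

/-- A property of all numbers below `n`. -/
def allB (n : ℕ) (p : ℕ → Bool) : Bool := (List.range n).all p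

theorem allB_iff {n : ℕ} {p : ℕ → Bool} : allB n p = true ↔ ∀ i < n, p i = true := by
  simp [allB, List.all_eq_true]

/-- A property of some number below `n`. -/
def anyB (n : ℕ) (p : ℕ → Bool) : Bool := (List.range n).any p

theorem anyB_iff {n : ℕ} {p : ℕ → Bool} : anyB n p = true ↔ ∃ i < n, p i = true := by
  simp [anyB, List.any_eq_true]

/-- A word read in tables, the last letter first. -/
def wimg (w : ℕ) (tabs : List ℕ) (word : List ℕ) (i : ℕ) : ℕ :=
  word.foldr (fun a j => ent w (tabs.getD a 0) j) i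

/-- An iterate. -/
def iterB (f : ℕ → ℕ) : ℕ → ℕ → ℕ
  | 0, i => i
  | k + 1, i => iterB f k (f i)

/-- Below `n`, what is true of the image of a step is true of the point. -/
theorem of_iterB {n : ℕ} {f : ℕ → ℕ} {P : ℕ → Prop} (h : ∀ v < n, f v < n ∧ (P (f v) → P v)) :
    ∀ k v, v < n → P (iterB f k v) → P v
  | 0, _, _, hp => hp
  | k + 1, v, hv, hp => (h v hv).2 (of_iterB h k (f v) (h v hv).1 hp)

/-- A permutation has a given table. -/
def IsTab {n : ℕ} (w : ℕ) (σ : Perm (Fin n)) (t : ℕ) : Prop := ∀ i : Fin n, (σ i).val = ent w t i.val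

theorem IsTab.lt {n w t : ℕ} {σ : Perm (Fin n)} (h : IsTab w σ t) {i : ℕ} (hi : i < n) :
    ent w t i < n := h ⟨i, hi⟩ ▸ (σ ⟨i, hi⟩).isLt

/-- The check that a table is an involution. -/
def invTabOK (n w t : ℕ) : Bool :=
  allB n fun i => decide (ent w t i < n) && ent w t (ent w t i) == i

theorem invTabOK_spec {n w t : ℕ} (h : invTabOK n w t = true) {i : ℕ} (hi : i < n) :
    ent w t i < n ∧ ent w t (ent w t i) = i := by
  simpa using allB_iff.1 h i hi

/-- The permutation of an involutory table. -/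
def permOfTab {n w t : ℕ} (h : invTabOK n w t = true) : Perm (Fin n) :=
  Function.Involutive.toPerm (fun i => ⟨ent w t i.val, (invTabOK_spec h i.isLt).1⟩)
    fun i => Fin.ext (invTabOK_spec h i.isLt).2

theorem isTab_permOfTab {n w t : ℕ} (h : invTabOK n w t = true) : IsTab w (permOfTab h) t :=
  fun _ => rfl

theorem wimg_eq {n w : ℕ} {tabs : List ℕ} {x : ℕ → Perm (Fin n)} {k : ℕ}
    (hx : ∀ a < k, IsTab w (x a) (tabs.getD a 0)) :
    ∀ word : List ℕ, (∀ a ∈ word, a < k) → ∀ i : Fin n,
      wimg w tabs word i.val = ((word.map x).prod i).val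
  | [], _, _ => rfl
  | a :: word, h, i => by
    have ih := wimg_eq hx word (fun b hb => h b (List.mem_cons_of_mem a hb)) i
    simp only [wimg, List.foldr_cons, List.map_cons, List.prod_cons, Perm.mul_apply] at ih ⊢
    rw [ih, ← hx a (h a List.mem_cons_self)]

/-- The check that two words give the same permutation. -/
def sameOn (n w : ℕ) (tabs u v : List ℕ) : Bool :=
  allB n fun i => wimg w tabs u i == wimg w tabs v i

theorem sameOn_sound {n w : ℕ} {tabs : List ℕ} {x : ℕ → Perm (Fin n)} {k : ℕ}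
    (hx : ∀ a < k, IsTab w (x a) (tabs.getD a 0)) {u v : List ℕ}
    (hu : ∀ a ∈ u, a < k) (hv : ∀ a ∈ v, a < k) (h : sameOn n w tabs u v = true) :
    (u.map x).prod = (v.map x).prod := by
  refine Equiv.ext fun i => Fin.ext ?_
  rw [← wimg_eq hx u hu, ← wimg_eq hx v hv]
  simpa using allB_iff.1 h i i.isLt

/-- The check that a word has a given table. -/
def wordTab (n w : ℕ) (tabs word : List ℕ) (t : ℕ) : Bool :=
  allB n fun i => wimg w tabs word i == ent w t i

theorem wordTab_sound {n w : ℕ} {tabs : List ℕ} {x : ℕ → Perm (Fin n)} {k : ℕ}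
    (hx : ∀ a < k, IsTab w (x a) (tabs.getD a 0)) {word : List ℕ} {t : ℕ}
    (hw : ∀ a ∈ word, a < k) (h : wordTab n w tabs word t = true) :
    IsTab w (word.map x).prod t := by
  intro i
  rw [← wimg_eq hx word hw]
  simpa using allB_iff.1 h i i.isLt

end CfsgLib.SuzRank
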