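import Cfsg.Agent.SuzG2.Main
import Cfsg.Agent.SuzRank.Data
import Cfsg.Agent.SuzRank.Tab
import Mathlib.GroupTheory.GroupAction.Quotient

/-!
# The action of `G₂(4)` on 416 points
-/

set_option autoImplicit false
set_option maxRecDepth 100000

namespace CfsgLib.SuzRank

open Cfsg.Spor CfsgLib.CosetEnum
open Equiv (Perm)

/-- The presented `G₂(4)`. -/
abbrev P6 : Type := CfsgLib.SuzG2.setup.Grp

/-- The element of a word. -/
noncomputable def el (w : List ℕ) : P6 := prodw SuzG2.setup.g w

instance : Finite P6 := SuzG2.finite_and_card_le.1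

theorem hom_bijective : Function.Bijective SuzG2.hom := by
  refine (Nat.bijective_iff_surjective_and_card _).2 ⟨SuzG2.hom_surjective, ?_⟩
  have := Nat.card_le_card_of_surjective _ SuzG2.hom_surjective
  have hle := SuzG2.finite_and_card_le.2
  rw [SuzG2.card_target] at this ⊢
  exact le_antisymm hle this

theorem card_P6 : Nat.card P6 = 251596800 := by
  rw [Nat.card_congr (Equiv.ofBijective _ hom_bijective), SuzG2.card_target]

instance : IsSimpleGroup P6 :=
  haveI : IsSimpleGroup SuzG2.G24 := SuzG2.isSimple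
  (MulEquiv.ofBijective SuzG2.hom hom_bijective).isSimpleGroup

/-- Relators from the relation words. -/
theorem rels_of_words {K : Type} [Group K] (φ : SuzG2.Gen → K) (hsq : ∀ a, φ a * φ a = 1)
    (hw : ∀ w ∈ SuzG2.setup.words, prodw (φ ∘ SuzG2.en) w = 1) :
    ∀ r ∈ coxRelators SuzG2.edges ∪ {r | r ∈ SuzG2.extra}, FreeGroup.lift φ r = 1 := by
  rintro r (⟨a, -, b, -, rfl⟩ | hr)
  · have hp : ∀ a b, SuzG2.ix a ≤ SuzG2.ix b → (φ a * φ b) ^ coxLabel SuzG2.edges a b = 1 := by
      intro a b hab
      have := hw (List.replicate (coxLabel SuzG2.edges a b) [SuzG2.ix a, SuzG2.ix b]).flatten (by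
        show _ ∈ coxWords SuzG2.en 6 SuzG2.edges ++ SuzG2.exW
        refine List.mem_append_left _ (mem_coxWords.mpr
          ⟨SuzG2.ix a, SuzG2.ix b, SuzG2.setup.ix_lt a, SuzG2.setup.ix_lt b, hab, ?_⟩)
        rw [SuzG2.en_ix', SuzG2.en_ix'])
      rw [prodw_replicate] at this
      simpa [prodw, SuzG2.en_ix'] using this
    rw [map_pow, map_mul, FreeGroup.lift_apply_of, FreeGroup.lift_apply_of]
    rcases le_total (SuzG2.ix a) (SuzG2.ix b) with h | h
    · exact hp a b h
    · have := hp b a h
      rw [coxLabel_symm] at this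
      have e : φ a * φ b = (φ b * φ a)⁻¹ := by
        rw [_root_.mul_inv_rev, inv_eq_of_mul_eq_one_right (hsq a),
          inv_eq_of_mul_eq_one_right (hsq b)]
      rw [e, inv_pow, this, inv_one]
  · have hm : FreeGroup.lift φ r ∈ SuzG2.extra.map (FreeGroup.lift φ) := List.mem_map_of_mem hr
    rw [show SuzG2.extra.map (FreeGroup.lift φ) = SuzG2.exW.map (prodw (φ ∘ SuzG2.en)) from
      SuzG2.setup.exW_eq _ φ hsq] at hm
    obtain ⟨w, hw', hw''⟩ := List.mem_map.1 hm
    rw [← hw'']
    exact hw w (List.mem_append_right _ hw')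

theorem gT_ok : ∀ i < 6, invTabOK 416 9 (Data.gT.getD i 0) = true := by decide +kernel

/-- The permutation of a letter. -/
def pg (i : ℕ) : Perm (Fin 416) :=
  if h : i < 6 then permOfTab (gT_ok i h) else 1

theorem isTab_pg : ∀ a < 6, IsTab 9 (pg a) (Data.gT.getD a 0) := by
  intro a ha
  rw [pg, dif_pos ha]
  exact isTab_permOfTab _

theorem pg_sq : ∀ i, pg i * pg i = 1 := by
  intro i
  refine Equiv.ext fun j => ?_
  unfold pg
  split
  · next h => exact Fin.ext (invTabOK_spec (gT_ok i h) j.isLt).2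
  · rfl

theorem words_fix : SuzG2.setup.words.all (fun w => w.all (fun a => Nat.blt a 6) &&
    sameOn 416 9 Data.gT w []) = true := by decide +kernel

theorem prodw_pg {w : List ℕ} (hw : w ∈ SuzG2.setup.words) :
    prodw (fun i => pg i) w = 1 := by
  have h := List.all_eq_true.1 words_fix w hw
  simp only [Bool.and_eq_true, List.all_eq_true, Nat.blt_eq] at h
  exact (sameOn_sound isTab_pg h.1 (fun _ ha => absurd ha List.not_mem_nil) h.2).trans (by simp)

/-- The action on the 416 points. -/
noncomputable def act : P6 →* Perm (Fin 416) :=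
  PresentedGroup.toGroup (rels_of_words (fun a => pg (SuzG2.ix a)) (fun _ => pg_sq _) (fun w hw => by
    refine Eq.trans ?_ (prodw_pg hw)
    have h := List.all_eq_true.1 words_fix w hw
    simp only [Bool.and_eq_true, List.all_eq_true, Nat.blt_eq] at h
    refine congrArg List.prod (List.map_congr_left fun a ha => ?_)
    show pg (SuzG2.ix (SuzG2.en a)) = _
    rw [show SuzG2.ix (SuzG2.en a) = a from SuzG2.setup.ix_en a (h.1 a ha)]))

theorem act_g {a : ℕ} (ha : a < 6) : act (SuzG2.setup.g a) = pg a := by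
  show act (PresentedGroup.of (SuzG2.en a)) = _
  exact (PresentedGroup.toGroup.of _).trans (congrArg pg (SuzG2.setup.ix_en a ha))

theorem act_el : ∀ {w : List ℕ}, (∀ a ∈ w, a < 6) → act (el w) = (w.map pg).prod
  | [], _ => map_one _
  | a :: w, h => by
    rw [el, prodw_cons, map_mul, act_g (h a List.mem_cons_self), List.map_cons, List.prod_cons,
      ← el, act_el fun b hb => h b (List.mem_cons_of_mem a hb)]

/-- The check that a word has a given table on the points. -/
def elTab (w : List ℕ) (t : ℕ) : Bool := w.all (fun a => Nat.blt a 6) && wordTab 416 9 Data.gT w t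

theorem isTab_act_el {w : List ℕ} {t : ℕ} (h : elTab w t = true) : IsTab 9 (act (el w)) t := by
  simp only [elTab, Bool.and_eq_true, List.all_eq_true, Nat.blt_eq] at h
  rw [act_el h.1]
  exact wordTab_sound isTab_pg h.1 h.2

theorem g_sq (a : ℕ) : SuzG2.setup.g a * SuzG2.setup.g a = 1 := SuzG2.setup.of_sq _

theorem act_el_val {w : List ℕ} (hw : ∀ a ∈ w, a < 6) (i : Fin 416) :
    (act (el w) i).val = wimg 9 Data.gT w i.val := by
  rw [act_el hw, wimg_eq isTab_pg w hw]

theorem act_injective : Function.Injective act := by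
  rcases act.normal_ker.eq_bot_or_eq_top with h | h
  · exact (MonoidHom.ker_eq_bot_iff act).1 h
  · exfalso
    have h1 : el [1] ∈ act.ker := h ▸ Subgroup.mem_top _
    have h2 : (act (el [1]) ⟨4, by decide⟩).val = 4 := by rw [MonoidHom.mem_ker.1 h1]; rfl
    rw [act_el_val (by decide)] at h2
    exact absurd h2 (by decide +kernel)

theorem el_eq_of_sameOn {u v : List ℕ} (hu : ∀ a ∈ u, a < 6) (hv : ∀ a ∈ v, a < 6)
    (h : sameOn 416 9 Data.gT u v = true) : el u = el v :=
  act_injective (by rw [act_el hu, act_el hv]; exact sameOn_sound isTab_pg hu hv h)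

theorem el_append (u v : List ℕ) : el (u ++ v) = el u * el v := prodw_append _ u v

theorem el_nil : el [] = 1 := rfl

theorem el_reverse : ∀ w : List ℕ, el w.reverse = (el w)⁻¹
  | [] => by simp [el_nil]
  | a :: w => by
    rw [List.reverse_cons, el_append, el_reverse w]
    have e : el (a :: w) = SuzG2.setup.g a * el w := prodw_cons _ a w
    have e1 : el [a] = SuzG2.setup.g a := by simp [el, prodw]
    rw [e, e1, mul_inv_rev, inv_eq_of_mul_eq_one_right (g_sq a)]

theorem el_replicate (w : List ℕ) (m : ℕ) : el (List.replicate m w).flatten = el w ^ m :=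
  prodw_replicate _ w m

/-- The stabiliser of a point. -/
noncomputable def St (p : Fin 416) : Subgroup P6 := (MulAction.stabilizer (Perm (Fin 416)) p).comap act

theorem mem_St {g : P6} {p : Fin 416} : g ∈ St p ↔ act g p = p := Iff.rfl

/-- Points in one orbit of a subgroup. -/
def Conn (H : Subgroup P6) (i j : Fin 416) : Prop := ∃ h ∈ H, act h i = j

theorem Conn.refl {H : Subgroup P6} (i : Fin 416) : Conn H i i := ⟨1, H.one_mem, by simp⟩

theorem Conn.symm {H : Subgroup P6} {i j : Fin 416} : Conn H i j → Conn H j i := by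
  rintro ⟨h, hh, rfl⟩
  exact ⟨h⁻¹, H.inv_mem hh, by simp [map_inv]⟩

theorem Conn.trans {H : Subgroup P6} {i j k : Fin 416} : Conn H i j → Conn H j k → Conn H i k := by
  rintro ⟨h, hh, rfl⟩ ⟨g, hg, rfl⟩
  exact ⟨g * h, H.mul_mem hg hh, by simp [map_mul]⟩

theorem Conn.mono {H K : Subgroup P6} (hle : H ≤ K) {i j : Fin 416} : Conn H i j → Conn K i j :=
  fun ⟨h, hh, e⟩ => ⟨h, hle hh, e⟩

/-- The orbit of a point under a subgroup, with the order formula. -/
theorem card_orbit_mul (H : Subgroup P6) (p : Fin 416) :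
    {j | Conn H p j}.ncard * Nat.card (H ⊓ St p : Subgroup P6) = Nat.card H := by
  let _ : MulAction H (Fin 416) := MulAction.compHom _ (act.comp H.subtype)
  have horb : MulAction.orbit H p = {j | Conn H p j} := by
    ext j
    exact ⟨fun ⟨h, e⟩ => ⟨h.1, h.2, e⟩, fun ⟨h, hh, e⟩ => ⟨⟨h, hh⟩, e⟩⟩
  have hst : MulAction.stabilizer H p = (H ⊓ St p).subgroupOf H := by
    ext h
    exact ⟨fun e => ⟨h.2, e⟩, fun e => e.2⟩
  rw [← horb, ← MulAction.index_stabilizer, mul_comm,
    ← Nat.card_congr (Subgroup.subgroupOfEquivOfLe (inf_le_left : H ⊓ St p ≤ H)).toEquiv, ← hst]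
  exact Subgroup.card_mul_index _

theorem upP_ok : (Data.fx.getD 0 0 == 4 && allB 416 fun v =>
    iterB (fun i => if i = 4 then i else ent 9 (Data.gT.getD (ent 3 Data.upP i) 0) i) Data.dP v == 4) =
      true := by
  decide +kernel

theorem upP_gen : (allB 416 fun v => decide (ent 3 Data.upP v < 6)) = true := by decide +kernel

theorem conn_top (i : Fin 416) : Conn ⊤ i ⟨4, by decide⟩ := by
  have h := upP_ok
  simp only [Bool.and_eq_true, allB_iff, beq_iff_eq] at h
  have key := of_iterB (n := 416)
    (f := fun i => if i = 4 then i else ent 9 (Data.gT.getD (ent 3 Data.upP i) 0) i)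
    (P := fun v => ∀ hv : v < 416, Conn ⊤ ⟨v, hv⟩ ⟨4, by decide⟩) (fun v hv => ?_) Data.dP i.val i.isLt
    (fun _ => by simp only [h.2 i.val i.isLt]; exact Conn.refl _) i.isLt
  · exact key
  · by_cases h4 : v = 4
    · subst h4; simp
    · simp only [if_neg h4]
      have hg : ent 3 Data.upP v < 6 := by simpa using allB_iff.1 upP_gen v hv
      have hlt := (invTabOK_spec (gT_ok _ hg) hv).1
      refine ⟨hlt, fun hp hv' => Conn.trans ⟨SuzG2.setup.g (ent 3 Data.upP v), trivial, ?_⟩ (hp hlt)⟩
      exact Fin.ext (by rw [act_g hg]; exact isTab_pg _ hg ⟨v, hv'⟩)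

theorem conn_top_all (i j : Fin 416) : Conn ⊤ i j := (conn_top i).trans (conn_top j).symm

theorem card_St (p : Fin 416) : Nat.card (St p) = 604800 := by
  have h := card_orbit_mul ⊤ p
  rw [show {j | Conn ⊤ p j} = Set.univ from Set.eq_univ_of_forall (conn_top_all p), Set.ncard_univ,
    Nat.card_fin, top_inf_eq, Nat.card_congr (Subgroup.topEquiv (G := P6)).toEquiv, card_P6] at h
  omega

theorem index_St (p : Fin 416) : (St p).index = 416 := by
  have h := (St p).card_mul_index
  rw [card_St, card_P6] at h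
  omega

end CfsgLib.SuzRank
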