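import Cfsg.Agent.SuzRank.Class
import Mathlib.GroupTheory.Sylow

/-!
# Sylow subgroups of `G₂(4)`
-/

set_option autoImplicit false
set_option maxRecDepth 100000

namespace CfsgLib.SuzRank

open Subgroup

theorem exists_conj_mem {p n : ℕ} [Fact p.Prime] {K H : Subgroup P6} (hK : IsPGroup p K)
    (h1 : p ^ n ∣ Nat.card H) (h2 : ¬ p ^ (n + 1) ∣ Nat.card P6) :
    ∃ g : P6, ∀ k ∈ K, g * k * g⁻¹ ∈ H := by
  obtain ⟨Q, hQ⟩ := Sylow.exists_subgroup_card_pow_prime p h1
  let R : Subgroup P6 := Q.map H.subtype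
  have hR : Nat.card R = p ^ n := (card_map_of_injective H.subtype_injective).trans hQ
  obtain ⟨R', hR'⟩ := (IsPGroup.of_card hR).exists_le_sylow
  obtain ⟨K', hK'⟩ := hK.exists_le_sylow
  have e : R = R' := by
    refine eq_of_le_of_card_ge hR' ?_
    obtain ⟨m, hm⟩ := IsPGroup.iff_card.1 R'.2
    rw [hm, hR]
    refine Nat.pow_le_pow_right (Fact.out : p.Prime).pos (not_lt.1 fun hnm => h2 ?_)
    exact (pow_dvd_pow p hnm).trans (hm ▸ card_subgroup_dvd_card _)
  obtain ⟨g, hg⟩ := MulAction.exists_smul_eq P6 K' R'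
  refine ⟨g, fun k hk => ?_⟩
  have hmem : g * k * g⁻¹ ∈ (g • K' : Sylow p P6) := ⟨k, hK' hk, rfl⟩
  rw [hg] at hmem
  exact map_subtype_le Q (show g * k * g⁻¹ ∈ R from e ▸ hmem)

theorem isPGroup_step {p : ℕ} {S : Set P6} (hS : IsPGroup p (closure S)) {g : P6}
    (hn : ∀ s ∈ S, g * s * g⁻¹ ∈ closure S) (hp : g ^ p ∈ closure S) :
    IsPGroup p (closure (insert g S)) := by
  rw [Set.insert_eq, Subgroup.closure_union, ← zpowers_eq_closure]
  have hz : IsPGroup p (zpowers g) := by
    rintro ⟨x, i, rfl⟩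
    obtain ⟨k, hk⟩ := hS ⟨g ^ p, hp⟩
    refine ⟨k + 1, Subtype.ext ?_⟩
    have hk' : (g ^ p) ^ p ^ k = 1 := by simpa using congrArg Subtype.val hk
    show (g ^ i) ^ p ^ (k + 1) = 1
    rw [← zpow_natCast (g ^ i), ← zpow_mul, mul_comm, zpow_mul, zpow_natCast, pow_succ', pow_mul, hk',
      one_zpow]
  refine hz.to_sup_of_normal_right' hS (zpowers_le.2 (mem_normalizer_fintype fun x hx => ?_))
  exact (closure_le (K := (closure S).comap (MulAut.conj g).toMonoidHom)).2 hn hx

theorem isPGroup_closure_empty (p : ℕ) : IsPGroup p (closure (∅ : Set P6)) := by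
  rw [Subgroup.closure_empty]; exact IsPGroup.of_bot

/-- A generator of the Sylow 2-subgroup. -/
noncomputable def uGen (i : ℕ) : P6 := el (Data.wU.getD i [])

theorem uT_ok : ∀ i < 12, elTab (Data.wU.getD i []) (Data.uT.getD i 0) = true := by decide +kernel

theorem isTab_uGen : ∀ a < 12, IsTab 9 ((act ∘ uGen) a) (Data.uT.getD a 0) :=
  fun a ha => isTab_act_el (uT_ok a ha)

theorem uGen_eq {u v : List ℕ} (hu : ∀ a ∈ u, a < 12) (hv : ∀ a ∈ v, a < 12)
    (h : sameOn 416 9 Data.uT u v = true) : (u.map uGen).prod = (v.map uGen).prod := by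
  refine act_injective ?_
  rw [map_list_prod, map_list_prod, List.map_map, List.map_map]
  exact sameOn_sound isTab_uGen hu hv h

/-- A relation of the series. -/
def uWord (i j : ℕ) : List ℕ := (Data.uRel.getD i []).getD (j - i) []

theorem uRel_ok : (allB 12 fun i => allB 12 fun j => decide (j < i) ||
    ((uWord i j).all (fun a => decide (i < a) && decide (a < 12)) &&
      sameOn 416 9 Data.uT [i, j] (if i = j then uWord i j else uWord i j ++ [i]))) = true := by
  decide +kernel

/-- The later generators. -/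
def uSet (i : ℕ) : Set P6 := {x | ∃ j, i ≤ j ∧ j < 12 ∧ uGen j = x}

theorem uWord_mem {i j : ℕ} (hi : i < 12) (hj : i ≤ j) (hj' : j < 12) :
    (if i = j then uGen i * uGen i else uGen i * uGen j * (uGen i)⁻¹) ∈ closure (uSet (i + 1)) := by
  have h := allB_iff.1 (allB_iff.1 uRel_ok i hi) j hj'
  simp only [decide_eq_false (show ¬ j < i by omega), Bool.false_or, Bool.and_eq_true, List.all_eq_true,
    decide_eq_true_eq] at h
  have hmem : ((uWord i j).map uGen).prod ∈ closure (uSet (i + 1)) := by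
    refine Subgroup.list_prod_mem _ fun x hx => ?_
    obtain ⟨a, ha, rfl⟩ := List.mem_map.1 hx
    exact subset_closure ⟨a, (h.1 a ha).1, (h.1 a ha).2, rfl⟩
  by_cases e : i = j
  · subst e
    rw [if_pos rfl] at h ⊢
    have := uGen_eq (by simp [hi]) (fun a ha => (h.1 a ha).2) h.2
    simp only [List.map_cons, List.map_nil, List.prod_cons, List.prod_nil, mul_one] at this
    rwa [this]
  · rw [if_neg e] at h ⊢
    have := uGen_eq (by simp [hi, hj']) (fun a ha => (List.mem_append.1 ha).elim (fun ha => (h.1 a ha).2)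
      fun ha => (List.mem_singleton.1 ha).symm ▸ hi) h.2
    simp only [List.map_cons, List.map_nil, List.prod_cons, List.prod_nil, mul_one, List.map_append,
      List.prod_append] at this
    rwa [this, mul_inv_cancel_right]

theorem isPGroup_uSet : ∀ m i, i + m = 12 → IsPGroup 2 (closure (uSet i))
  | 0, i, h => by
    rw [show uSet i = ∅ from Set.eq_empty_iff_forall_notMem.2 fun x ⟨j, h1, h2, _⟩ => by omega]
    exact isPGroup_closure_empty 2
  | m + 1, i, h => by
    rw [show uSet i = insert (uGen i) (uSet (i + 1)) by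
      ext x
      constructor
      · rintro ⟨j, h1, h2, rfl⟩
        rcases h1.eq_or_lt with rfl | h3
        exacts [Or.inl rfl, Or.inr ⟨j, h3, h2, rfl⟩]
      · rintro (rfl | ⟨j, h1, h2, rfl⟩)
        exacts [⟨i, le_rfl, by omega, rfl⟩, ⟨j, by omega, h2, rfl⟩]]
    refine isPGroup_step (isPGroup_uSet m (i + 1) (by omega)) ?_ ?_
    · rintro x ⟨j, h1, h2, rfl⟩
      have := uWord_mem (show i < 12 by omega) (show i ≤ j by omega) h2
      rwa [if_neg (by omega)] at this
    · have := uWord_mem (show i < 12 by omega) le_rfl (by omega)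
      rwa [if_pos rfl, ← sq] at this

/-- A Sylow 2-subgroup. -/
noncomputable def U : Subgroup P6 := closure (uSet 0)

theorem isPGroup_U : IsPGroup 2 U := isPGroup_uSet 12 0 rfl

theorem uGen_mem_U {i : ℕ} (hi : i < 12) : uGen i ∈ U := subset_closure ⟨i, Nat.zero_le i, hi, rfl⟩

/-- Two generators of a Sylow 3-subgroup. -/
noncomputable def rGen (i : ℕ) : P6 := el (Data.wR.getD i [])

theorem wR_lt : ∀ i < 2, ∀ a ∈ Data.wR.getD i [], a < 6 := by decide +kernel

theorem r_ok :
    (sameOn 416 9 Data.gT (List.replicate 3 Data.wY0).flatten [] = true ∧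
      ∀ i < 2, sameOn 416 9 Data.gT (List.replicate 3 (Data.wR.getD i [])).flatten [] = true ∧
        sameOn 416 9 Data.gT (Data.wR.getD i [] ++ Data.wY0) (Data.wY0 ++ Data.wR.getD i []) = true) ∧
    sameOn 416 9 Data.gT (Data.wR.getD 1 [] ++ Data.wR.getD 0 [])
      (Data.wY0 ++ Data.wY0 ++ Data.wR.getD 0 [] ++ Data.wR.getD 1 []) = true ∧
    sameOn 416 9 Data.gT (Data.wR.getD 1 [] ++ Data.wR.getD 0 [])
      (Data.wR.getD 0 [] ++ Data.wR.getD 1 []) = false := by
  decide +kernel

theorem wY0_lt : ∀ a ∈ Data.wY0, a < 6 := by decide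

theorem y0_pow_three : y0 ^ 3 = 1 := by
  rw [y0, ← el_replicate, ← el_nil]
  exact el_eq_of_sameOn (by decide) (by simp) r_ok.1.1

theorem rGen_spec {i : ℕ} (hi : i < 2) : rGen i ^ 3 = 1 ∧ rGen i * y0 = y0 * rGen i := by
  have hl := wR_lt i hi
  constructor
  · rw [rGen, ← el_replicate, ← el_nil]
    refine el_eq_of_sameOn (fun a ha => ?_) (by simp) (r_ok.1.2 i hi).1
    simp only [List.mem_flatten, List.mem_replicate] at ha
    obtain ⟨l, ⟨-, rfl⟩, hl'⟩ := ha
    exact hl a hl'
  · rw [rGen, y0, ← el_append, ← el_append]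
    exact el_eq_of_sameOn (by simpa [or_imp, forall_and] using ⟨hl, wY0_lt⟩)
      (by simpa [or_imp, forall_and] using ⟨wY0_lt, hl⟩) (r_ok.1.2 i hi).2

theorem rGen_comm : rGen 1 * rGen 0 = y0 * y0 * rGen 0 * rGen 1 := by
  simp only [rGen, y0, ← el_append]
  exact el_eq_of_sameOn (by decide +kernel) (by decide +kernel) r_ok.2.1

theorem rGen_ne : rGen 1 * rGen 0 ≠ rGen 0 * rGen 1 := by
  intro h
  simp only [rGen, ← el_append] at h
  refine Bool.eq_false_iff.1 r_ok.2.2 (allB_iff.2 fun i hi => beq_iff_eq.2 ?_)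
  rw [← act_el_val (by decide +kernel) ⟨i, hi⟩, ← act_el_val (by decide +kernel) ⟨i, hi⟩, h]

/-- A Sylow 3-subgroup. -/
noncomputable def S27 : Subgroup P6 := closure (insert (rGen 1) (insert (rGen 0) {y0}))

theorem isPGroup_S27 : IsPGroup 3 S27 := by
  have h0 : IsPGroup 3 (closure ({y0} : Set P6)) := by
    rw [← insert_empty_eq]
    exact isPGroup_step (isPGroup_closure_empty 3) (by simp) (by rw [y0_pow_three]; exact one_mem _)
  have h1 : IsPGroup 3 (closure (insert (rGen 0) ({y0} : Set P6))) := by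
    refine isPGroup_step h0 ?_ (by rw [(rGen_spec (by norm_num)).1]; exact one_mem _)
    rintro s (rfl : s = y0)
    rw [(rGen_spec (i := 0) (by norm_num)).2, mul_inv_cancel_right]
    exact subset_closure rfl
  refine isPGroup_step h1 ?_ (by rw [(rGen_spec (by norm_num)).1]; exact one_mem _)
  have hy : y0 ∈ closure (insert (rGen 0) ({y0} : Set P6)) := subset_closure (by simp)
  have hu : rGen 0 ∈ closure (insert (rGen 0) ({y0} : Set P6)) := subset_closure (by simp)
  rintro s (rfl | rfl)
  · rw [rGen_comm, mul_inv_cancel_right]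
    exact mul_mem (mul_mem hy hy) hu
  · rw [(rGen_spec (i := 1) (by norm_num)).2, mul_inv_cancel_right]
    exact hy

theorem card_S27 : Nat.card S27 = 27 := by
  haveI : Fact (Nat.Prime 3) := ⟨Nat.prime_three⟩
  obtain ⟨m, hm⟩ := IsPGroup.iff_card.1 isPGroup_S27
  have hd : (3 : ℕ) ^ m ∣ 251596800 := by rw [← hm, ← card_P6]; exact card_subgroup_dvd_card _
  have hle : m ≤ 3 := by
    by_contra h
    exact absurd ((pow_dvd_pow 3 (show 4 ≤ m by omega)).trans hd) (by norm_num)
  have hu : rGen 0 ∈ S27 := subset_closure (by simp)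
  have hv : rGen 1 ∈ S27 := subset_closure (by simp)
  have hnc : ¬ ∀ a b : S27, a * b = b * a := fun h =>
    rGen_ne (congrArg Subtype.val (h ⟨_, hv⟩ ⟨_, hu⟩))
  interval_cases m
  · exact absurd (fun a b => @Subsingleton.elim _ (Nat.card_eq_one_iff_unique.1 hm).1 _ _) hnc
  · haveI := isCyclic_of_prime_card (p := 3) (by simpa using hm)
    exact absurd IsCyclic.commGroup.mul_comm hnc
  · exact absurd (IsPGroup.commutative_of_card_eq_prime_sq hm) hnc
  · simpa using hm

theorem y0_central {s : P6} (hs : s ∈ S27) : s * y0 = y0 * s := by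
  have hle : S27 ≤ centralizer {y0} := (closure_le _).2 (by
    rintro x (rfl | rfl | rfl)
    all_goals simp only [SetLike.mem_coe, mem_centralizer_singleton_iff]
    exacts [(rGen_spec (by norm_num)).2, (rGen_spec (by norm_num)).2])
  exact mem_centralizer_singleton_iff.1 (hle hs)

/-- A subgroup of order divisible by nine contains a conjugate of the base element. -/
theorem exists_conj_y0 {H : Subgroup P6} (h9 : 9 ∣ Nat.card H) : ∃ g : P6, g * y0 * g⁻¹ ∈ H := by
  haveI : Fact (Nat.Prime 3) := ⟨Nat.prime_three⟩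
  obtain ⟨Q, hQ⟩ := Sylow.exists_subgroup_card_pow_prime 3 (n := 2) (G := H) (by simpa using h9)
  let R : Subgroup P6 := Q.map H.subtype
  have hR : Nat.card R = 3 ^ 2 := (card_map_of_injective H.subtype_injective).trans hQ
  obtain ⟨g, hg⟩ := exists_conj_mem (n := 3) (IsPGroup.of_card hR) (by rw [card_S27]; norm_num)
    (by rw [card_P6]; norm_num)
  let T : Subgroup P6 := R.map (MulAut.conj g).toMonoidHom
  have hT : Nat.card T = 3 ^ 2 :=
    (card_map_of_injective (MulAut.conj g).injective).trans hR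
  have hTS : T ≤ S27 := by rintro _ ⟨r, hr, rfl⟩; exact hg r hr
  suffices hy : y0 ∈ T by
    obtain ⟨r, hr, e⟩ := hy
    refine ⟨g⁻¹, map_subtype_le Q (show g⁻¹ * y0 * (g⁻¹)⁻¹ ∈ R from ?_)⟩
    rw [← e]
    simpa [MulAut.conj_apply, mul_assoc] using hr
  by_contra hy
  have hy' : y0 ∈ S27 := subset_closure (by simp)
  have hlt : T < T ⊔ zpowers y0 := lt_of_le_of_ne le_sup_left fun e =>
    hy (e.symm ▸ le_sup_right (a := T) (mem_zpowers y0))
  have hle : T ⊔ zpowers y0 ≤ S27 := sup_le hTS (zpowers_le.2 hy')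
  have heq : T ⊔ zpowers y0 = S27 := by
    refine eq_of_le_of_card_ge hle (not_lt.1 fun h => ?_)
    obtain ⟨a, ha⟩ := IsPGroup.iff_card.1 (isPGroup_S27.to_le hle)
    have h9' : 3 ^ 2 < Nat.card (T ⊔ zpowers y0 : Subgroup P6) := by
      refine hT ▸ not_le.1 fun h' => hlt.ne (eq_of_le_of_card_ge le_sup_left h')
    rw [card_S27, ha] at h
    rw [ha] at h9'
    have := (Nat.pow_lt_pow_iff_right (by norm_num)).1 h9'
    have := Nat.pow_le_pow_right (show 0 < 3 by norm_num) (show 3 ≤ a by omega)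
    omega
  have hcomm : ∀ a ∈ S27, ∀ b ∈ S27, a * b = b * a := by
    have hc : S27 ≤ centralizer (T : Set P6) := by
      rw [← heq]
      refine sup_le (fun a ha b hb => ?_) (zpowers_le.2 fun b hb => y0_central (hTS hb))
      exact congrArg Subtype.val (IsPGroup.commutative_of_card_eq_prime_sq hT ⟨b, hb⟩ ⟨a, ha⟩)
    intro a ha b hb
    have hc' : S27 ≤ centralizer {a} := by
      rw [← heq]
      refine sup_le (fun b hb => mem_centralizer_singleton_iff.2 ?_)
        (zpowers_le.2 (mem_centralizer_singleton_iff.2 (y0_central ha).symm))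
      exact hc ha b hb
    exact (mem_centralizer_singleton_iff.1 (hc' hb)).symm
  exact rGen_ne (hcomm _ (subset_closure (by simp)) _ (subset_closure (by simp)))

/-- Tables of two commuting elements of order five. -/
def zT : ℕ := 0x25b8f08ed973cf10b0982f33cb2278044a9db9161f7597ccd2bd284ac1dcafa93b1f0c91a2c34f4c13824d1e11bb38aaa9b2310677696aba1c292573bd0a8d5681ef41f739d62f9b028c8c09888a5d955c5d2f91cd74fc387d20c0d2b38aa65b37158e320aecb51c80bebb1e8c849446d31b6681064b21f26262b376e754ab338987935b4b1983cc924dd2d52dc5c8bfa722998b3912ef0b2f6fe7d9042c90c5c1772f5ab3a7ecc13820520d9be996394c868f82686004ea11e5f88f3cc5c26de4a7fb12f80d0b0aa96f01d0f71afe67cd4c47486326d7948463f22db8ac68416c56291015875934f84521951186aa6c0e200b9bbc872219894e6cf753a127370162185148173f266d391d6cceb17c1eded970e5ec1f3240d24ca3603362fa8945d5e249a040d15e7355c02f21dbfcf6dcea123156b1f7eaf6e8777897f2d18b150aa05a01656be78b6ada485c114064c186a5186f052044d3244442e6827f85bb238508dcfd86004f253121904bd5b43b335a271608b585d27619a72cd2c6135906a9601873472821f47055b216c3c515c02aeade343d0070a730b6860e0a920ba59360a5471da9a9951871acac293e180682617a7a41a302ad54818c687ce847675b8fcae826e2d288a0953ba2804bc1c64a69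

/-- The second table. -/
def wT : ℕ := 0x71960375a473fe4e6f2f91b1d1d360bd412591234faa5a8d8cf999993edfd4f942ff1b7611e1ae4a9bfde322f05665c269acc5c49ac3acb245ac7c4b52635d82860060b8fc783555359e1854b354bccaed9fbbe1f57b5a61eb5b7487c2f7a558c20968cdd846a5a00d88969db721d2c79b35f320bb40adc56e734a6e169eb5315b33e7d4864788c1af4193a7bb49f911b244ad847952f1d10e486794c77a144d72d7699ce0eb88312af63d1e0b2ca8c59adac12022ddedadeafe047d2ca22ab1987684d490adac54d2f67a3b108510a751b00a11dcc0ba287546c11341365983825d5e5959c80b900d9aa50e41c920e472a94953b992993339f81e097005a8661b84654456578e0007660330aa402657a98865f24cdb74ca10f168f7ec031e4e57188dca41a0da5acbab541ba3a08cddc4f212978c03f3d8c5390d17616e752a020d65031bd2256ee19104242ace951157da6948ff452ca0a48dfbf4f73e719c041f32e03a45625372bada2296aca50ab584d063575ca87a28ce22358e82086256733c2dac1e7086688a76da645bc4205999903a6301090ccf43917324db3abe033698ba7d16d870b3d12a82be109f366e050148428b19467a8c5724c335a3c41a704cc55ec49c5141010a8109d1004761a02b16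

/-- Two commuting elements of order five. -/
noncomputable def fGen (i : ℕ) : P6 := el (Data.wF.getD i [])

theorem fT_ok : ∀ i < 2, elTab (Data.wF.getD i []) ([zT, wT].getD i 0) = true := by decide +kernel

theorem isTab_fGen : ∀ a < 2, IsTab 9 ((act ∘ fGen) a) ([zT, wT].getD a 0) :=
  fun a ha => isTab_act_el (fT_ok a ha)

theorem fGen_eq {u v : List ℕ} (hu : ∀ a ∈ u, a < 2) (hv : ∀ a ∈ v, a < 2)
    (h : sameOn 416 9 [zT, wT] u v = true) : (u.map fGen).prod = (v.map fGen).prod := by
  refine act_injective ?_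
  rw [map_list_prod, map_list_prod, List.map_map, List.map_map]
  exact sameOn_sound isTab_fGen hu hv h

theorem f_ok : sameOn 416 9 [zT, wT] (List.replicate 5 0) [] = true ∧
    sameOn 416 9 [zT, wT] (List.replicate 5 1) [] = true ∧
    sameOn 416 9 [zT, wT] [0, 1] [1, 0] = true := by decide +kernel

theorem f_pow (i : ℕ) (hi : i < 2) : fGen i ^ 5 = 1 := by
  interval_cases i
  · simpa [pow_succ, mul_assoc] using fGen_eq (by simp) (by simp) f_ok.1
  · simpa [pow_succ, mul_assoc] using fGen_eq (by simp) (by simp) f_ok.2.1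

theorem f_commute : Commute (fGen 0) (fGen 1) := by
  have := fGen_eq (by simp) (by simp) f_ok.2.2
  simpa [Commute, SemiconjBy] using this

/-- A Sylow 5-subgroup. -/
noncomputable def P25 : Subgroup P6 := closure (insert (fGen 1) {fGen 0})

theorem isPGroup_P25 : IsPGroup 5 P25 := by
  refine isPGroup_step ?_ ?_ (by rw [f_pow 1 (by norm_num)]; exact one_mem _)
  · rw [← insert_empty_eq]
    exact isPGroup_step (isPGroup_closure_empty 5) (by simp)
      (by rw [f_pow 0 (by norm_num)]; exact one_mem _)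
  · rintro s (rfl : s = fGen 0)
    rw [← f_commute.eq, mul_inv_cancel_right]
    exact subset_closure rfl

theorem mem_P25 {g : P6} (hg : g ∈ P25) :
    ∃ i < 5, ∃ j < 5, fGen 0 ^ i * fGen 1 ^ j = g := by
  have hred : ∀ a < 2, ∀ i : ℕ, fGen a ^ i = fGen a ^ (i % 5) := fun a ha i => by
    conv_lhs => rw [← Nat.mod_add_div i 5, pow_add, pow_mul, f_pow a ha, one_pow, mul_one]
  suffices h : ∃ i j : ℕ, fGen 0 ^ i * fGen 1 ^ j = g by
    obtain ⟨i, j, rfl⟩ := h
    exact ⟨i % 5, Nat.mod_lt _ (by norm_num), j % 5, Nat.mod_lt _ (by norm_num),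
      by rw [← hred 0 (by norm_num), ← hred 1 (by norm_num)]⟩
  induction hg using closure_induction with
  | mem x hx =>
    rcases hx with rfl | (rfl : x = fGen 0)
    exacts [⟨0, 1, by simp⟩, ⟨1, 0, by simp⟩]
  | one => exact ⟨0, 0, by simp⟩
  | mul x y _ _ hx hy =>
    obtain ⟨a, b, rfl⟩ := hx
    obtain ⟨c, d, rfl⟩ := hy
    refine ⟨a + c, b + d, ?_⟩
    rw [pow_add, pow_add, mul_assoc, ← mul_assoc (fGen 0 ^ c), (f_commute.pow_pow c b).eq]
    group
  | inv x _ hx =>
    obtain ⟨a, b, rfl⟩ := hx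
    refine ⟨4 * a, 4 * b, ?_⟩
    rw [eq_inv_iff_mul_eq_one, mul_assoc, ← mul_assoc (fGen 1 ^ (4 * b)), ← (f_commute.pow_pow a (4 * b)).eq,
      mul_assoc, ← pow_add, ← mul_assoc, ← pow_add, show 4 * a + a = 5 * a by ring,
      show 4 * b + b = 5 * b by ring, pow_mul, pow_mul, f_pow 0 (by norm_num), f_pow 1 (by norm_num),
      one_pow, one_pow, mul_one]

/-- A word in the two tables. -/
def fWord (i j : ℕ) : List ℕ := List.replicate i 0 ++ List.replicate j 1

theorem f_fix : (allB 5 fun i => allB 5 fun j => (i == 0 && j == 0) || decide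
    (((List.range 416).filter fun v => wimg 9 [zT, wT] (fWord i j) v == v).length ≤ 6)) = true := by
  decide +kernel

theorem ncard_fix_conj (g h : P6) :
    {i | act (g * h * g⁻¹) i = i}.ncard = {i | act h i = i}.ncard := by
  rw [← Set.ncard_image_of_injective {i | act h i = i} (act g).injective]
  congr 1
  ext i
  simp only [Set.mem_setOf_eq, Set.mem_image, map_mul, map_inv, Equiv.Perm.mul_apply]
  constructor
  · intro e
    refine ⟨(act g).symm i, ?_, by simp⟩
    exact (Equiv.eq_symm_apply _).2 e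
  · rintro ⟨j, hj, rfl⟩
    simp [hj]

theorem fix_P25 {g : P6} (hg : g ∈ P25) (hne : g ≠ 1) : {i | act g i = i}.ncard ≤ 6 := by
  obtain ⟨i, hi, j, hj, rfl⟩ := mem_P25 hg
  have hw : ∀ a ∈ fWord i j, a < 2 := by
    intro a ha
    simp only [fWord, List.mem_append, List.mem_replicate] at ha
    omega
  have h := allB_iff.1 (allB_iff.1 f_fix i hi) j hj
  rw [Bool.or_eq_true, Bool.and_eq_true, beq_iff_eq, beq_iff_eq, decide_eq_true_eq] at h
  rcases h with ⟨rfl, rfl⟩ | h
  · simp at hne
  · refine le_trans (le_of_eq ?_) h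
    rw [← List.toFinset_card_of_nodup ((List.nodup_range).filter _), ← Set.ncard_coe_finset,
      ← Set.ncard_image_of_injective {v : Fin 416 | _} Fin.val_injective]
    congr 1
    have hv : ∀ v : Fin 416, (act (fGen 0 ^ i * fGen 1 ^ j) v).val = wimg 9 [zT, wT] (fWord i j) v.val := by
      intro v
      rw [wimg_eq isTab_fGen _ hw, map_mul, map_pow, map_pow]
      simp [fWord, List.map_append]
    ext v
    simp only [Set.mem_image, Set.mem_setOf_eq, List.coe_toFinset, List.mem_filter, List.mem_range,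
      beq_iff_eq]
    constructor
    · rintro ⟨u, hu, rfl⟩
      exact ⟨u.isLt, by rw [← hv, hu]⟩
    · rintro ⟨hlt, e⟩
      exact ⟨⟨v, hlt⟩, Fin.ext (by rw [hv]; exact e), rfl⟩

theorem card_P25 : Nat.card P25 = 25 := by
  haveI : Fact (Nat.Prime 5) := ⟨by norm_num⟩
  obtain ⟨m, hm⟩ := IsPGroup.iff_card.1 isPGroup_P25
  have hd : (5 : ℕ) ^ m ∣ 251596800 := by rw [← hm, ← card_P6]; exact card_subgroup_dvd_card _
  have hle : m ≤ 2 := by
    by_contra h
    exact absurd ((pow_dvd_pow 5 (show 3 ≤ m by omega)).trans hd) (by norm_num)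
  have hz : fGen 0 ∈ P25 := subset_closure (by simp)
  have hne : ∀ i < 5, ∀ j < 5, (i ≠ 0 ∨ j ≠ 0) → fGen 0 ^ i * fGen 1 ^ j ≠ 1 := by
    intro i hi j hj hij e
    have h := allB_iff.1 (allB_iff.1 f_fix i hi) j hj
    have hne' : ¬(i = 0 ∧ j = 0) := by omega
    simp only [Bool.or_eq_true, Bool.and_eq_true, beq_iff_eq, hne', false_or, decide_eq_true_eq] at h
    have hall : ((List.range 416).filter fun v => wimg 9 [zT, wT] (fWord i j) v == v) = List.range 416 := by
      refine List.filter_eq_self.2 fun v hv => beq_iff_eq.2 ?_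
      have hw : ∀ a ∈ fWord i j, a < 2 := by
        intro a ha
        simp only [fWord, List.mem_append, List.mem_replicate] at ha
        omega
      rw [show v = (⟨v, List.mem_range.1 hv⟩ : Fin 416).val from rfl, wimg_eq isTab_fGen _ hw]
      have e' := congrArg act e
      rw [map_mul, map_pow, map_pow, map_one] at e'
      simp [fWord, List.map_append, e']
    rw [hall, List.length_range] at h
    omega
  interval_cases m
  · have := (card_eq_one.1 (by simpa using hm) : P25 = ⊥) ▸ hz
    exact absurd (by simpa using this) (hne 1 (by norm_num) 0 (by norm_num) (Or.inl one_ne_zero))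
  · exfalso
    have hz1 : fGen 0 ≠ 1 := by simpa using hne 1 (by norm_num) 0 (by norm_num) (Or.inl one_ne_zero)
    have ho : orderOf (fGen 0) = 5 := orderOf_eq_prime (f_pow 0 (by norm_num)) hz1
    have heq : zpowers (fGen 0) = P25 :=
      eq_of_le_of_card_ge (zpowers_le.2 hz) (by rw [Nat.card_zpowers, ho, hm]; norm_num)
    have hw : fGen 1 ∈ zpowers (fGen 0) := heq.symm ▸ subset_closure (by simp)
    obtain ⟨k', hk'⟩ : ∃ k : ℕ, fGen 0 ^ k = fGen 1 :=
      Submonoid.mem_powers_iff _ _ |>.1 ((isOfFinOrder_of_finite _).mem_powers_iff_mem_zpowers.2 hw)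
    obtain ⟨k, hk⟩ : ∃ k, k < 5 ∧ fGen 0 ^ k = fGen 1 :=
      ⟨k' % 5, Nat.mod_lt _ (by norm_num), by rw [← ho, pow_mod_orderOf]; exact hk'⟩
    refine hne ((5 - k) % 5) (Nat.mod_lt _ (by norm_num)) 1 (by norm_num) (Or.inr one_ne_zero) ?_
    rw [← hk.2, pow_one, ← pow_add, ← orderOf_dvd_iff_pow_eq_one, ho]
    omega
  · simpa using hm

/-- Elements of order five fix at most six points. -/
theorem fix_order_five {g : P6} (h5 : g ^ 5 = 1) (hne : g ≠ 1) : {i | act g i = i}.ncard ≤ 6 := by
  haveI : Fact (Nat.Prime 5) := ⟨by norm_num⟩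
  have hz : IsPGroup 5 (zpowers g) :=
    IsPGroup.of_card (n := 1) (by rw [Nat.card_zpowers, orderOf_eq_prime h5 hne, pow_one])
  obtain ⟨t, ht⟩ := exists_conj_mem (H := P25) (n := 2) hz (by rw [card_P25]; norm_num)
    (by rw [card_P6]; norm_num)
  rw [← ncard_fix_conj t g]
  exact fix_P25 (ht g (mem_zpowers g)) (by simpa using hne)

/-- The codes of the two elements of order five. -/
def fCode : List ℕ := [0x320100602f30f879d3, 0xae1eb477c679e546ef]

theorem fCode_ok : ∀ i < 2, codeOK (Data.wF.getD i []) (fCode.getD i 0) = true := by decide +kernel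

/-- Whether two codes commute. -/
def commAt (M N : ℕ) : Bool := allB 6 fun j => allB 6 fun i =>
  SuzG2.ent (appM M (col N j)) i == SuzG2.ent (appM N (col M j)) i

theorem ofC_inj : ∀ a < 4, ∀ b < 4, SuzG2.ofC a = SuzG2.ofC b → a = b := by decide +kernel

theorem class_not_comm : (allB 2080 fun k =>
    CfsgLib.CosetEnum.force (cls k) fun M => !(commAt M (fCode.getD 0 0) && commAt M (fCode.getD 1 0))) = true := by
  decide +kernel

theorem commAt_of_comm {M N : ℕ} {g h : P6} (hM : Rep M g) (hN : Rep N h) (hc : g * h = h * g) :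
    commAt M N = true := by
  refine allB_iff.2 fun j hj => allB_iff.2 fun i hi => beq_iff_eq.2 ?_
  refine ofC_inj _ (SuzG2.ent_lt _ _) _ (SuzG2.ent_lt _ _) ?_
  have e : SuzG2.dec (appM M (col N j)) = SuzG2.dec (appM N (col M j)) := by
    rw [dec_appM, dec_appM, ← matM_single M ⟨j, hj⟩, ← matM_single N ⟨j, hj⟩, Matrix.mulVec_mulVec,
      Matrix.mulVec_mulVec, hM, hN, ← mR_mul, ← mR_mul, hc]
  have e' := congrFun e ⟨i, hi⟩
  rwa [← SuzG2.ofC_ent _ ⟨i, hi⟩, ← SuzG2.ofC_ent _ ⟨i, hi⟩] at e'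

/-- No member of the class centralises a Sylow 5-subgroup. -/
theorem not_centralises {k : ℕ} (hk : k < 2080) {y : P6} (hy : RepPM k y)
    (hc : ∀ g ∈ P25, g * y = y * g) : False := by
  have h := allB_iff.1 class_not_comm k hk
  rw [CfsgLib.CosetEnum.force_eq] at h
  simp only [Bool.not_eq_true', Bool.and_eq_false_iff] at h
  have hz : ∀ i < 2, fGen i ∈ P25 := by
    intro i hi
    interval_cases i <;> exact subset_closure (by simp)
  have key : ∀ i < 2, ∀ x : P6, Rep (cls k) x → x * fGen i = fGen i * x →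
      commAt (cls k) (fCode.getD i 0) = true := fun i hi x hx e =>
    commAt_of_comm hx (rep_of_code (fCode_ok i hi)) e
  have key' : ∀ i < 2, commAt (cls k) (fCode.getD i 0) = true := by
    intro i hi
    have e := hc _ (hz i hi)
    rcases hy with hy | hy
    · exact key i hi y hy e.symm
    · exact key i hi _ hy (Commute.inv_left (show Commute y (fGen i) from e.symm)).eq
  rcases h with h | h
  · rw [key' 0 (by norm_num)] at h; simp at h
  · rw [key' 1 (by norm_num)] at h; simp at h

end CfsgLib.SuzRank
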